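import Cfsg.Agent.Lib.Recog.MTwelveCent.Order
import Cfsg.Agent.Lib.Sporadic.SporMathieu

/-!
Owner: helper11. A simple group with the central involution centraliser of `M12` is an `IsM12` group.
-/

set_option autoImplicit false

namespace CfsgLib.Recog.MTwelveCent

open Cfsg CfsgLib.Sporadic

theorem isM12_of_centralizer {G : Type*} [Group G] [Finite G] [IsSimpleGroup G] (hna : ¬ IsMulCommutative G)
    (u : ↥Spor.M12) (hu : IsTwoCentralInvolution u) (t : G) (ht : orderOf t = 2)
    (e : ↥(Subgroup.centralizer ({t} : Set G)) ≃* ↥(Subgroup.centralizer ({u} : Set ↥Spor.M12))) :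
    IsM12 G := by
  have ht1 : t ≠ 1 := fun h => by
    rw [h, orderOf_one] at ht
    norm_num at ht
  obtain ⟨S⟩ := exists_setting ht1 u hu e
  exact ⟨inferInstance, card_eq S hna⟩

end CfsgLib.Recog.MTwelveCent
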