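import Cfsg.Agent.Lib.Recog.MTwelveCent.Bridge

/-!
Owner: helper11. Reading the table inside a group whose involution centraliser has it.
-/

set_option autoImplicit false

namespace CfsgLib.Recog.MTwelveCent

open CfsgLib.Sporadic Subgroup

theorem existsLt_iff {n : ℕ} {f : ℕ → Bool} : existsLt n f = true ↔ ∃ k < n, f k = true := by
  simp only [existsLt, Bool.not_eq_true', ← Bool.not_eq_true, forallLt_iff]
  constructor
  · intro h
    push Not at h
    simpa using h
  · rintro ⟨k, hk, hf⟩ h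
    simp [hf] at h
    exact absurd hf (by have := h k hk; simp_all)

variable {G : Type*} [Group G] {t : G} (S : Setting t)

include S

theorem mem {i : ℕ} (hi : i < 192) : S.ι i ∈ centralizer ({t} : Set G) :=
  (S.mem_iff _).2 ⟨i, hi, rfl⟩

theorem ι_zero : S.ι 0 = 1 := by
  have h := S.map_mul (i := 0) (j := 0) (by norm_num) (by norm_num)
  rw [show mul 0 0 = 0 by decide +kernel] at h
  exact mul_eq_left.1 h.symm

theorem inv_lt {i : ℕ} (hi : i < 192) : inv i < 192 := by
  have h := table_ok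
  simp only [Bool.and_eq_true] at h
  have := forallLt_elim h.1.2 hi
  simp only [Bool.and_eq_true, Nat.blt_eq] at this
  exact this.1.2

theorem ι_inv {i : ℕ} (hi : i < 192) : S.ι (inv i) = (S.ι i)⁻¹ := by
  have h := table_ok
  simp only [Bool.and_eq_true] at h
  have := forallLt_elim h.1.2 hi
  simp only [Bool.and_eq_true, Nat.beq_eq] at this
  symm
  refine inv_eq_of_mul_eq_one_right ?_
  rw [← S.map_mul hi (inv_lt S hi), this.2, ι_zero S]

theorem cj_lt {g x : ℕ} (hg : g < 192) (hx : x < 192) : cj g x < 192 :=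
  table (table hg hx) (inv_lt S hg)

theorem ι_cj {g x : ℕ} (hg : g < 192) (hx : x < 192) :
    S.ι (cj g x) = S.ι g * S.ι x * (S.ι g)⁻¹ := by
  rw [cj, S.map_mul (table hg hx) (inv_lt S hg), S.map_mul hg hx, ι_inv S hg]

theorem commB_iff {i j : ℕ} (hi : i < 192) (hj : j < 192) :
    commB i j = true ↔ S.ι i * S.ι j = S.ι j * S.ι i := by
  rw [commB, Nat.beq_eq, ← S.map_mul hi hj, ← S.map_mul hj hi]
  exact ⟨congrArg S.ι, S.inj (table hi hj) (table hj hi)⟩

theorem ι_eq_one_iff {i : ℕ} (hi : i < 192) : S.ι i = 1 ↔ i = 0 :=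
  ⟨fun h => S.inj hi (by norm_num) (h.trans (ι_zero S).symm), fun h => h ▸ ι_zero S⟩

theorem cls_lt_six {i : ℕ} (hi : i < 192) : cls i < 6 ∧ (cls i = 0 ↔ i = 0) ∧ (cls i = 1 ↔ i = iz) := by
  have h := cls_ok
  simp only [Bool.and_eq_true] at h
  have := forallLt_elim h.1.1 hi
  simp only [Bool.and_eq_true, Nat.blt_eq, beq_iff_eq] at this
  have h0 := Bool.eq_iff_iff.1 this.1.1.2
  have h1 := Bool.eq_iff_iff.1 this.1.2
  simp only [Nat.beq_eq] at h0 h1
  exact ⟨this.1.1.1, h0, h1⟩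

theorem invol_iff {i : ℕ} (hi : i < 192) :
    orderOf (S.ι i) = 2 ↔ 1 ≤ cls i ∧ cls i ≤ 4 := by
  have h := cls_ok
  simp only [Bool.and_eq_true] at h
  have h' := forallLt_elim h.1.1 hi
  simp only [Bool.and_eq_true, beq_iff_eq] at h'
  have h0 := Bool.eq_iff_iff.1 h'.1.1.2
  have h4 := Bool.eq_iff_iff.1 h'.2
  simp only [Nat.beq_eq, Nat.blt_eq] at h0 h4
  rw [orderOf_eq_prime_iff, pow_two, ← S.map_mul hi hi, ι_eq_one_iff S (table hi hi), ← h4,
    Ne, ι_eq_one_iff S hi, ← h0]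
  omega

theorem exists_index {g : G} (hg : g ∈ centralizer ({t} : Set G)) : ∃ i < 192, S.ι i = g :=
  (S.mem_iff g).1 hg

theorem exists_invol_index {g : G} (hg : g ∈ centralizer ({t} : Set G)) (h2 : orderOf g = 2) :
    ∃ i < 192, S.ι i = g ∧ 1 ≤ cls i ∧ cls i ≤ 4 := by
  obtain ⟨i, hi, rfl⟩ := exists_index S hg
  exact ⟨i, hi, rfl, (invol_iff S hi).1 h2⟩

theorem cls_cj {g x : ℕ} (hg : g < 192) (hx : x < 192) : cls (cj g x) = cls x := by
  have h := cls_ok
  simp only [Bool.and_eq_true] at h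
  have := forallLt_elim (forallLt_elim h.1.2 hg) hx
  simp only [Bool.and_eq_true, Nat.beq_eq] at this
  exact this.1

theorem isConj_rep {x : ℕ} (hx : x < 192) :
    (cls x = 2 → IsConj (S.ι ia) (S.ι x)) ∧ (cls x = 3 → IsConj (S.ι iu) (S.ι x)) ∧
      (cls x = 4 → IsConj (S.ι iw) (S.ι x)) := by
  have h := cls_ok
  simp only [Bool.and_eq_true] at h
  have := forallLt_elim h.2 hx
  simp only [Bool.and_eq_true, Bool.or_eq_true, Bool.not_eq_true', existsLt_iff, Nat.beq_eq] at this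
  have hlt : ia < 192 ∧ iu < 192 ∧ iw < 192 := by decide
  refine ⟨fun hc => ?_, fun hc => ?_, fun hc => ?_⟩
  · rcases this.1.1 with h' | ⟨g, hg, e⟩
    · rw [← Bool.not_eq_true, Nat.beq_eq] at h'; exact absurd hc h'
    · exact isConj_iff.2 ⟨S.ι g, by rw [← ι_cj S hg hlt.1, e]⟩
  · rcases this.1.2 with h' | ⟨g, hg, e⟩
    · rw [← Bool.not_eq_true, Nat.beq_eq] at h'; exact absurd hc h'
    · exact isConj_iff.2 ⟨S.ι g, by rw [← ι_cj S hg hlt.2.1, e]⟩
  · rcases this.2 with h' | ⟨g, hg, e⟩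
    · rw [← Bool.not_eq_true, Nat.beq_eq] at h'; exact absurd hc h'
    · exact isConj_iff.2 ⟨S.ι g, by rw [← ι_cj S hg hlt.2.2, e]⟩

theorem card_of_index (f : ℕ → Bool) (P : G → Prop)
    (hP : ∀ g, P g ↔ ∃ i < 192, f i = true ∧ S.ι i = g) :
    Nat.card {g : G // P g} = countLt 192 f := by
  classical
  rw [countLt_eq]
  rw [← Nat.card_eq_finsetCard]
  refine (Nat.card_congr (Equiv.ofBijective
    (fun i : {k // k ∈ (Finset.range 192).filter fun k => f k = true} =>
      (⟨S.ι i.1, (hP _).2 ⟨i.1, Finset.mem_range.1 (Finset.mem_filter.1 i.2).1,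
        (Finset.mem_filter.1 i.2).2, rfl⟩⟩ : {g : G // P g})) ⟨fun a b h => ?_, fun g => ?_⟩)).symm
  · exact Subtype.ext (S.inj (Finset.mem_range.1 (Finset.mem_filter.1 a.2).1)
      (Finset.mem_range.1 (Finset.mem_filter.1 b.2).1) (congrArg Subtype.val h))
  · obtain ⟨i, hi, hf, e⟩ := (hP g.1).1 g.2
    exact ⟨⟨i, Finset.mem_filter.2 ⟨Finset.mem_range.2 hi, hf⟩⟩, Subtype.ext e⟩

theorem card_centralizer_t : Nat.card (centralizer ({t} : Set G)) = 192 := by
  rw [show Nat.card (centralizer ({t} : Set G)) = countLt 192 (fun _ => true) from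
    card_of_index S (fun _ => true) (fun g => g ∈ centralizer ({t} : Set G)) fun g =>
      (S.mem_iff g).trans (exists_congr fun i => by simp)]
  decide +kernel

/-- the subgroup given by a closed set of indices -/
def indexSubgroup (f : ℕ → Bool) (h0 : f 0 = true)
    (hm : ∀ i < 192, ∀ j < 192, f i = true → f j = true → f (mul i j) = true)
    (hi : ∀ i < 192, f i = true → f (inv i) = true) : Subgroup G where
  carrier := {g | ∃ i < 192, f i = true ∧ S.ι i = g}
  one_mem' := ⟨0, by norm_num, h0, ι_zero S⟩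
  mul_mem' := by
    rintro _ _ ⟨i, hil, hf, rfl⟩ ⟨j, hjl, hg, rfl⟩
    exact ⟨mul i j, table hil hjl, hm i hil j hjl hf hg, S.map_mul hil hjl⟩
  inv_mem' := by
    rintro _ ⟨i, hil, hf, rfl⟩
    exact ⟨inv i, inv_lt S hil, hi i hil hf, ι_inv S hil⟩

theorem card_indexSubgroup {f : ℕ → Bool} {h0 : f 0 = true}
    {hm : ∀ i < 192, ∀ j < 192, f i = true → f j = true → f (mul i j) = true}
    {hi : ∀ i < 192, f i = true → f (inv i) = true} :
    Nat.card (indexSubgroup S f h0 hm hi) = countLt 192 f :=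
  card_of_index S f _ fun _ => Iff.rfl

end CfsgLib.Recog.MTwelveCent
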