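import Cfsg.Agent.Lib.Recog.MTwelveCent.Model
import Cfsg.Agent.Lib.Sporadic.SporMathieu
import Cfsg.Prelude.Def_SporadicB

/-!
Owner: helper11. The table describes the centraliser of a two-central involution of M12.
-/

set_option autoImplicit false
set_option maxRecDepth 100000

namespace CfsgLib.Recog.MTwelveCent

open Cfsg CfsgLib.Sporadic
open scoped Pointwise

noncomputable def el (i : ℕ) : ℕ := elts.getD i 0

noncomputable def key (i : ℕ) : ℕ :=
  pget (el i) 0 + 32 * (pget (el i) 1 + 32 * (pget (el i) 2 + 32 * (pget (el i) 3 + 32 * pget (el i) 4)))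

theorem perms_ok : ((forallLt 192 fun i => isAut (el i) && Nat.beq (mimg (el i) stdD) stdD) &&
    (forallLt 192 fun i => Nat.beq i 0 ||
      Nat.beq (pmul (el (genI.getD (byte genP i) 0)) (el (byte parP i))) (el i)) &&
    (forallLt 3 fun k => forallLt 192 fun j =>
      Nat.beq (pmul (el (genI.getD k 0)) (el j)) (el (mul (genI.getD k 0) j)) &&
        Nat.blt (genI.getD k 0) 192) &&
    Nat.beq (el 0) pone) = true := by decide +kernel

theorem central_ok : (forallLt 192 fun x => commB x iz &&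
    (Nat.beq x 0 || Nat.beq x iz || existsLt 192 fun y => !commB x y)) = true := by decide +kernel

theorem key_ok : ((forallLt 192 fun i => forallLt 192 fun j => Nat.beq i j || !Nat.beq (key i) (key j)) &&
    (forallLt 4 fun a => forallLt 4 fun b => forallLt 4 fun c => forallLt 4 fun d => forallLt 24 fun p =>
      (Nat.beq a b || Nat.beq a c || Nat.beq a d || Nat.beq b c || Nat.beq b d || Nat.beq c d ||
        !stdD.testBit p || Nat.beq (pget (el iz) p) p) ||
      existsLt 192 fun i => Nat.beq (key i) (a + 32 * (b + 32 * (c + 32 * (d + 32 * p))))) &&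
    (forallLt 24 fun p => !stdD.testBit p || !Nat.beq (pget (el iz) p) p || Nat.blt p 4) &&
    (forallLt 5 fun p => stdD.testBit p && (Nat.beq (pget (el iz) p) p == Nat.blt p 4))) = true := by
  decide +kernel

theorem rep_exists {i : ℕ} (hi : i < 192) :
    ∃ g : ↥Spor.M12, Rep (g : Equiv.Perm GolayPt) (el i) := by
  have h := perms_ok
  simp only [Bool.and_eq_true] at h
  have h1 := forallLt_elim h.1.1.1 hi
  simp only [Bool.and_eq_true, Nat.beq_eq] at h1
  obtain ⟨g, hg⟩ := exists_M24_elt h1.1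
  have hs := mem_stab_mask hg h1.2
  rw [← squareDodecad_eq] at hs
  exact ⟨⟨g.1, g.2, hs⟩, hg⟩

/-- the element of M12 with index `i` -/
noncomputable def sig (i : ℕ) : ↥Spor.M12 := if hi : i < 192 then (rep_exists hi).choose else 1

theorem sig_rep {i : ℕ} (hi : i < 192) : Rep (sig i : Equiv.Perm GolayPt) (el i) := by
  rw [sig, dif_pos hi]; exact (rep_exists hi).choose_spec

theorem sig_zero : sig 0 = 1 := by
  have h := perms_ok
  simp only [Bool.and_eq_true, Nat.beq_eq] at h
  refine Subtype.ext (Rep.unique (sig_rep (by norm_num)) ?_)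
  rw [h.2]
  exact Rep.one

theorem table {i j : ℕ} (hi : i < 192) (hj : j < 192) : mul i j < 192 := by
  have h := table_ok
  simp only [Bool.and_eq_true] at h
  have := forallLt_elim (forallLt_elim h.1.1 hi) hj
  rwa [Nat.blt_eq] at this

theorem sig_mul : ∀ {i j : ℕ}, i < 192 → j < 192 → sig (mul i j) = sig i * sig j := by
  intro i
  induction i using Nat.strong_induction_on with
  | _ i ih =>
    intro j hi hj
    have hT := table_ok
    have hP := perms_ok
    simp only [Bool.and_eq_true] at hT hP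
    by_cases h0 : i = 0
    · subst h0
      have := forallLt_elim hT.1.2 hj
      simp only [Bool.and_eq_true, Nat.beq_eq] at this
      rw [this.1.1.1, sig_zero, one_mul]
    have h1 := forallLt_elim hT.2 hi
    simp only [Bool.or_eq_true, Bool.and_eq_true, Nat.beq_eq, Nat.blt_eq] at h1
    obtain ⟨⟨hp, hk⟩, hrow⟩ := h1.resolve_left h0
    have hrow := forallLt_elim hrow hj
    rw [Nat.beq_eq] at hrow
    set p := byte parP i with hpdef
    set k := byte genP i with hkdef
    set g := genI.getD k 0 with hgdef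
    have hpi : p < 192 := by omega
    have hgen : ∀ j, j < 192 → sig g * sig j = sig (mul g j) ∧ g < 192 := by
      intro j hj
      have := forallLt_elim (forallLt_elim hP.1.2 hk) hj
      simp only [Bool.and_eq_true, Nat.beq_eq, Nat.blt_eq] at this
      refine ⟨?_, this.2⟩
      have h := (sig_rep this.2).mul (sig_rep hj)
      rw [← hgdef] at this h
      rw [this.1] at h
      exact Subtype.ext (Rep.unique h (sig_rep (table this.2 hj)))
    have hg : g < 192 := (hgen 0 (by norm_num)).2
    have hi' : sig i = sig g * sig p := by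
      have := forallLt_elim hP.1.1.2 hi
      simp only [Bool.or_eq_true, Nat.beq_eq] at this
      have e := this.resolve_left h0
      have h := (sig_rep hg).mul (sig_rep hpi)
      rw [hgdef] at h
      rw [e] at h
      exact Subtype.ext (Rep.unique (sig_rep hi) h)
    rw [hrow, ← (hgen _ (table hpi hj)).1, ih p hp hpi hj, hi', mul_assoc]

/-- the two-central involution -/
noncomputable def u₀ : ↥Spor.M12 := sig iz

theorem iz_lt : iz < 192 := by decide

theorem sig_inj {i j : ℕ} (hi : i < 192) (hj : j < 192) (h : sig i = sig j) : i = j := by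
  have hk := key_ok
  simp only [Bool.and_eq_true] at hk
  have h1 := forallLt_elim (forallLt_elim hk.1.1.1 hi) hj
  simp only [Bool.or_eq_true, Nat.beq_eq, Bool.not_eq_true'] at h1
  refine h1.resolve_right fun h2 => ?_
  have hpg : ∀ p, p < 24 → pget (el i) p = pget (el j) p := fun p hp => by
    rw [← ix_pt hp, sig_rep hi (pt p), sig_rep hj (pt p), h]
  rw [← Bool.not_eq_true, Nat.beq_eq] at h2
  exact h2 (by simp only [key, hpg 0 (by norm_num), hpg 1 (by norm_num), hpg 2 (by norm_num),
    hpg 3 (by norm_num), hpg 4 (by norm_num)])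

theorem mem_cent_sig {i : ℕ} (hi : i < 192) :
    sig i ∈ Subgroup.centralizer ({u₀} : Set ↥Spor.M12) := by
  have h := forallLt_elim central_ok hi
  simp only [Bool.and_eq_true, commB, Nat.beq_eq] at h
  rw [Subgroup.mem_centralizer_singleton_iff, u₀, ← sig_mul hi iz_lt, h.1, sig_mul iz_lt hi]

theorem exists_sig {g : ↥Spor.M12} (hg : g ∈ Subgroup.centralizer ({u₀} : Set ↥Spor.M12)) :
    ∃ i < 192, sig i = g := by
  have hk := key_ok
  simp only [Bool.and_eq_true] at hk
  rw [Subgroup.mem_centralizer_singleton_iff] at hg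
  set σ : Equiv.Perm GolayPt := (g : Equiv.Perm GolayPt) with hσ
  set ζ : Equiv.Perm GolayPt := (u₀ : Equiv.Perm GolayPt) with hζ
  have hcomm : ∀ x, σ (ζ x) = ζ (σ x) := fun x =>
    congrArg (fun h : ↥Spor.M12 => (h : Equiv.Perm GolayPt) x) hg
  have hd : ∀ x, σ x ∈ Spor.squareDodecad ↔ x ∈ Spor.squareDodecad := fun x =>
    smul_mem_of_stab (g := (⟨σ, g.2.1⟩ : ↥M24)) (g.2.2 : σ • Spor.squareDodecad = _)
  have hfix : ∀ p, p < 24 → (Nat.beq (pget (el iz) p) p = true ↔ ζ (pt p) = pt p) := by
    intro p hp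
    have := sig_rep iz_lt (pt p)
    rw [ix_pt hp] at this
    rw [Nat.beq_eq, this]
    exact ⟨fun h => ix_injective (h.trans (ix_pt hp).symm), fun h =>
      (congrArg ix h).trans (ix_pt hp)⟩
  have hD : ∀ p, p < 24 → (pt p ∈ Spor.squareDodecad ↔ stdD.testBit p = true) := fun p hp => by
    rw [squareDodecad_eq, mem_setOfMask, ix_pt hp]
  have h5 : ∀ p, p < 5 → stdD.testBit (ix (σ (pt p))) = true ∧
      (Nat.beq (pget (el iz) (ix (σ (pt p)))) (ix (σ (pt p))) = true ↔ p < 4) := by
    intro p hp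
    have h := forallLt_elim hk.2 hp
    simp only [Bool.and_eq_true, beq_iff_eq] at h
    have hp24 : p < 24 := by omega
    refine ⟨(hD _ (ix_lt _)).1 (by rw [pt_ix, hd, hD p hp24]; exact h.1), ?_⟩
    rw [hfix _ (ix_lt _), pt_ix, ← hcomm, σ.injective.eq_iff, ← hfix p hp24, h.2, Nat.blt_eq]
  have hlt : ∀ p, p < 4 → ix (σ (pt p)) < 4 := by
    intro p hp
    obtain ⟨h1, h2⟩ := h5 p (by omega)
    have := forallLt_elim hk.1.2 (ix_lt (σ (pt p)))
    simp only [Bool.or_eq_true, Bool.not_eq_true', Nat.blt_eq] at this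
    rcases this with (h | h) | h
    · exact absurd h1 (by rw [h]; simp)
    · exact absurd (h2.2 hp) (by rw [h]; simp)
    · exact h
  have hne : ∀ p q, p < 24 → q < 24 → p ≠ q → ix (σ (pt p)) ≠ ix (σ (pt q)) := fun p q hp hq h e =>
    h (by rw [← ix_pt hp, σ.injective (ix_injective e), ix_pt hq])
  have hsel := forallLt_elim (forallLt_elim (forallLt_elim (forallLt_elim (forallLt_elim hk.1.1.2
    (hlt 0 (by norm_num))) (hlt 1 (by norm_num))) (hlt 2 (by norm_num))) (hlt 3 (by norm_num)))
    (ix_lt (σ (pt 4)))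
  simp only [Bool.or_eq_true, Nat.beq_eq, Bool.not_eq_true'] at hsel
  rcases hsel with (((((((h | h) | h) | h) | h) | h) | h) | h) | h
  · exact absurd h (hne 0 1 (by norm_num) (by norm_num) (by norm_num))
  · exact absurd h (hne 0 2 (by norm_num) (by norm_num) (by norm_num))
  · exact absurd h (hne 0 3 (by norm_num) (by norm_num) (by norm_num))
  · exact absurd h (hne 1 2 (by norm_num) (by norm_num) (by norm_num))
  · exact absurd h (hne 1 3 (by norm_num) (by norm_num) (by norm_num))
  · exact absurd h (hne 2 3 (by norm_num) (by norm_num) (by norm_num))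
  · exact absurd (h5 4 (by norm_num)).1 (by rw [h]; simp)
  · exact absurd ((h5 4 (by norm_num)).2.1 (by rw [Nat.beq_eq]; exact h)) (by norm_num)
  simp only [existsLt, Bool.not_eq_true', ← Bool.not_eq_true, forallLt_iff] at h
  push Not at h
  obtain ⟨i, hi, hkey⟩ := h
  simp only [Bool.not_eq_true', ← Bool.not_eq_true, not_not, Nat.beq_eq] at hkey
  refine ⟨i, hi, ?_⟩
  have hdigit : ∀ p, p < 5 → pget (el i) p = ix (σ (pt p)) := by
    have b : ∀ p, pget (el i) p < 32 := fun p => pget_lt _ _
    have c : ∀ p, ix (σ (pt p)) < 32 := fun p => lt_trans (ix_lt _) (by norm_num)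
    have := b 0; have := b 1; have := b 2; have := b 3; have := b 4
    have := c 0; have := c 1; have := c 2; have := c 3; have := c 4
    simp only [key] at hkey
    intro p hp
    interval_cases p <;> omega
  let x : Fin 5 ↪ GolayPt := ⟨fun k => pt k.val, fun a b h => Fin.ext (by
    have := congrArg ix h
    rwa [ix_pt (lt_trans a.2 (by norm_num)), ix_pt (lt_trans b.2 (by norm_num))] at this)⟩
  let y : Fin 5 ↪ GolayPt := x.trans σ.toEmbedding
  have hx : ∀ k, x k ∈ Spor.squareDodecad := fun k => by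
    have h := forallLt_elim hk.2 k.2
    simp only [Bool.and_eq_true] at h
    exact (hD _ (lt_trans k.2 (by norm_num))).2 h.1
  have hu := existsUnique_map_dodecad squareDodecad_mem x y hx (fun k => (hd _).2 (hx k))
  let lift : ↥Spor.M12 → MulAction.stabilizer ↥M24 Spor.squareDodecad := fun g =>
    ⟨⟨(g : Equiv.Perm GolayPt), g.2.1⟩, g.2.2⟩
  have e := hu.unique (y₁ := lift (sig i)) (y₂ := lift g) (fun k => by
    refine ix_injective ?_
    show ix ((sig i : Equiv.Perm GolayPt) (pt k.val)) = ix (σ (pt k.val))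
    rw [← sig_rep hi (pt k.val), ix_pt (lt_trans k.2 (by norm_num)), hdigit k.val k.2]) (fun _ => rfl)
  exact Subtype.ext (congrArg (fun w : MulAction.stabilizer ↥M24 Spor.squareDodecad =>
    ((w : ↥M24) : Equiv.Perm GolayPt)) e)

theorem card_inS : Nat.card {i : ℕ // i < 192 ∧ inS i = true} = 64 := by
  have h := sylow_ok
  simp only [Bool.and_eq_true, Nat.beq_eq, countLt_eq] at h
  rw [← h.2.1.2]
  exact Nat.subtype_card _ fun i => by rw [Finset.mem_filter, Finset.mem_range]

theorem exists_conj (u : ↥Spor.M12) (hu : IsTwoCentralInvolution u) :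
    ∃ g : ↥Spor.M12, g * u * g⁻¹ = u₀ := by
  classical
  haveI : Fact (Nat.Prime 2) := ⟨Nat.prime_two⟩
  obtain ⟨hu2, P, huP, hcen⟩ := hu
  have hS := sylow_ok
  simp only [Bool.and_eq_true] at hS
  have hz : inS 0 = true := hS.2.1.1.1.1.1.1.1
  have hT := table_ok
  simp only [Bool.and_eq_true] at hT
  have hcl : ∀ x < 192, inS x = true → inS (inv x) = true ∧ ∀ y < 192, inS y = true →
      inS (mul x y) = true := by
    intro x hx hxS
    have h := forallLt_elim hS.1.1.1 hx
    simp only [hxS, Bool.not_true, Bool.false_or, Bool.and_eq_true] at h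
    refine ⟨h.1, fun y hy hyS => ?_⟩
    have := forallLt_elim h.2 hy
    simpa [hyS] using this
  have hinv : ∀ x < 192, inv x < 192 ∧ (sig x)⁻¹ = sig (inv x) := by
    intro x hx
    have h := forallLt_elim hT.1.2 hx
    simp only [Bool.and_eq_true, Nat.beq_eq, Nat.blt_eq] at h
    refine ⟨h.1.2, inv_eq_of_mul_eq_one_right ?_⟩
    rw [← sig_mul hx h.1.2, h.2, sig_zero]
  let K : Subgroup ↥Spor.M12 :=
    { carrier := {g | ∃ i < 192, inS i = true ∧ sig i = g}
      one_mem' := ⟨0, by norm_num, hz, sig_zero⟩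
      mul_mem' := by
        rintro _ _ ⟨i, hi, hiS, rfl⟩ ⟨j, hj, hjS, rfl⟩
        exact ⟨mul i j, table hi hj, (hcl i hi hiS).2 j hj hjS, sig_mul hi hj⟩
      inv_mem' := by
        rintro _ ⟨i, hi, hiS, rfl⟩
        exact ⟨inv i, (hinv i hi).1, (hcl i hi hiS).1, (hinv i hi).2.symm⟩ }
  have hK : Nat.card K = 2 ^ (Nat.card ↥Spor.M12).factorization 2 := by
    have hbij : Function.Bijective (fun s : {i : ℕ // i < 192 ∧ inS i = true} =>
        (⟨sig s.1, s.1, s.2.1, s.2.2, rfl⟩ : K)) :=
      ⟨fun a b h => Subtype.ext (sig_inj a.2.1 b.2.1 (congrArg Subtype.val h)),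
        fun g => by obtain ⟨g, i, hi, hiS, rfl⟩ := g; exact ⟨⟨i, hi, hiS⟩, rfl⟩⟩
    rw [← Nat.card_congr (Equiv.ofBijective _ hbij), card_inS, card_sporM12,
      show (95040 : ℕ) = 2 ^ 6 * 1485 by norm_num,
      Nat.factorization_mul (by norm_num) (by norm_num), Finsupp.add_apply,
      Nat.Prime.factorization_pow Nat.prime_two, Finsupp.single_eq_same,
      Nat.factorization_eq_zero_of_not_dvd (show ¬ 2 ∣ 1485 by norm_num)]
    rfl
  let P₀ : Sylow 2 ↥Spor.M12 := Sylow.ofCard K hK
  obtain ⟨g, hg⟩ := MulAction.exists_smul_eq ↥Spor.M12 P P₀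
  refine ⟨g, ?_⟩
  have hmem : ∀ x : ↥Spor.M12, x ∈ K ↔ g⁻¹ * x * g ∈ (P : Subgroup ↥Spor.M12) := fun x => by
    have e : K = MulAut.conj g • (P : Subgroup ↥Spor.M12) := by
      rw [← Sylow.coe_subgroup_smul, hg]; rfl
    rw [e, Subgroup.mem_pointwise_smul_iff_inv_smul_mem]
    simp
  obtain ⟨i, hi, hiS, hie⟩ : g * u * g⁻¹ ∈ K :=
    (hmem _).2 (by rw [show g⁻¹ * (g * u * g⁻¹) * g = u by group]; exact huP)
  have hc := forallLt_elim hS.1.2 hi
  simp only [hiS, Bool.not_true, Bool.false_or, Bool.or_eq_true, Nat.beq_eq] at hc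
  rcases hc with (h | h) | h
  · exfalso
    rw [h, sig_zero] at hie
    have : u = 1 := by
      calc u = g⁻¹ * (g * u * g⁻¹) * g := by group
        _ = 1 := by rw [← hie]; group
    rw [this, orderOf_one] at hu2
    norm_num at hu2
  · rw [← hie, h]; rfl
  · exfalso
    simp only [existsLt, Bool.not_eq_true', ← Bool.not_eq_true, forallLt_iff] at h
    push Not at h
    obtain ⟨y, hy, hyc⟩ := h
    simp only [Bool.not_eq_true', ← Bool.not_eq_true, not_not, Bool.and_eq_true, commB, Nat.beq_eq] at hyc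
    refine hyc.2 (sig_inj (table hi hy) (table hy hi) ?_)
    rw [sig_mul hi hy, sig_mul hy hi, hie]
    have h1 := hcen _ ((hmem (sig y)).1 ⟨y, hy, hyc.1, rfl⟩)
    calc g * u * g⁻¹ * sig y = g * (u * (g⁻¹ * sig y * g)) * g⁻¹ := by group
      _ = sig y * (g * u * g⁻¹) := by rw [← h1]; group

/-- A group whose involution centraliser has the table. -/
structure Setting {G : Type*} [Group G] (t : G) where
  ι : ℕ → G
  map_mul : ∀ {i j : ℕ}, i < 192 → j < 192 → ι (mul i j) = ι i * ι j
  inj : ∀ {i j : ℕ}, i < 192 → j < 192 → ι i = ι j → i = j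
  mem_iff : ∀ g : G, g ∈ Subgroup.centralizer ({t} : Set G) ↔ ∃ i < 192, ι i = g
  map_iz : ι iz = t

theorem exists_setting {G : Type*} [Group G] {t : G} (ht : t ≠ 1) (u : ↥Spor.M12)
    (hu : IsTwoCentralInvolution u)
    (e : ↥(Subgroup.centralizer ({t} : Set G)) ≃*
      ↥(Subgroup.centralizer ({u} : Set ↥Spor.M12))) : Nonempty (Setting t) := by
  obtain ⟨g, hg⟩ := exists_conj u hu
  have hc : ∀ x : ↥Spor.M12, x ∈ Subgroup.centralizer ({u} : Set ↥Spor.M12) ↔
      g * x * g⁻¹ ∈ Subgroup.centralizer ({u₀} : Set ↥Spor.M12) := by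
    intro x
    rw [Subgroup.mem_centralizer_singleton_iff, Subgroup.mem_centralizer_singleton_iff, ← hg]
    constructor
    · intro h
      rw [show g * x * g⁻¹ * (g * u * g⁻¹) = g * (x * u) * g⁻¹ by group, h]; group
    · intro h
      calc x * u = g⁻¹ * (g * x * g⁻¹ * (g * u * g⁻¹)) * g := by group
        _ = u * x := by rw [h]; group
  let v : ℕ → G := fun i =>
    if hi : i < 192 then
      ((e.symm ⟨g⁻¹ * sig i * g, (hc _).2 (by
        rw [show g * (g⁻¹ * sig i * g) * g⁻¹ = sig i by group]; exact mem_cent_sig hi)⟩ :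
          ↥(Subgroup.centralizer ({t} : Set G))) : G)
    else 1
  have hv : ∀ i (hi : i < 192) (h), e ⟨v i, h⟩ = (⟨g⁻¹ * sig i * g, (hc _).2 (by
      rw [show g * (g⁻¹ * sig i * g) * g⁻¹ = sig i by group]; exact mem_cent_sig hi)⟩ :
        ↥(Subgroup.centralizer ({u} : Set ↥Spor.M12))) := by
    intro i hi h
    rw [← e.eq_symm_apply]
    exact Subtype.ext (by simp only [v, dif_pos hi])
  have hmem : ∀ i, i < 192 → v i ∈ Subgroup.centralizer ({t} : Set G) := by
    intro i hi
    simp only [v, dif_pos hi]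
    exact SetLike.coe_mem _
  have hmul : ∀ {i j : ℕ}, i < 192 → j < 192 → v (mul i j) = v i * v j := by
    intro i j hi hj
    have h : (⟨v (mul i j), hmem _ (table hi hj)⟩ : ↥(Subgroup.centralizer ({t} : Set G))) =
        ⟨v i, hmem i hi⟩ * ⟨v j, hmem j hj⟩ := e.injective (by
      rw [map_mul, hv i hi, hv j hj, hv _ (table hi hj)]
      refine Subtype.ext ?_
      show g⁻¹ * sig (mul i j) * g = g⁻¹ * sig i * g * (g⁻¹ * sig j * g)
      rw [sig_mul hi hj]; group)
    exact congrArg Subtype.val h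
  have hinj : ∀ {i j : ℕ}, i < 192 → j < 192 → v i = v j → i = j := by
    intro i j hi hj h
    have h' := congrArg e (Subtype.ext h :
      (⟨v i, hmem i hi⟩ : ↥(Subgroup.centralizer ({t} : Set G))) = ⟨v j, hmem j hj⟩)
    rw [hv i hi, hv j hj] at h'
    exact sig_inj hi hj (mul_left_cancel (mul_right_cancel (congrArg Subtype.val h')))
  have hiff : ∀ y : G, y ∈ Subgroup.centralizer ({t} : Set G) ↔ ∃ i < 192, v i = y := by
    intro y
    refine ⟨fun hy => ?_, fun ⟨i, hi, h⟩ => h ▸ hmem i hi⟩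
    obtain ⟨i, hi, h⟩ := exists_sig ((hc _).1 (e ⟨y, hy⟩).2)
    refine ⟨i, hi, congrArg Subtype.val (e.injective (?_ :
      e ⟨v i, hmem i hi⟩ = e ⟨y, hy⟩))⟩
    rw [hv i hi]
    refine Subtype.ext ?_
    show g⁻¹ * sig i * g = _
    rw [h]; group
  refine ⟨⟨v, hmul, hinj, hiff, ?_⟩⟩
  obtain ⟨i, hi, hit⟩ := (hiff t).1 (Subgroup.mem_centralizer_singleton_iff.2 rfl)
  have h := forallLt_elim central_ok hi
  simp only [Bool.and_eq_true, Bool.or_eq_true, Nat.beq_eq] at h
  rcases h.2 with (h' | h') | h'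
  · refine absurd ?_ ht
    have h0 := hmul (i := 0) (j := 0) (by norm_num) (by norm_num)
    rw [show mul 0 0 = 0 by decide +kernel] at h0
    rw [← hit, h']
    exact mul_eq_left.1 h0.symm
  · rw [← h']; exact hit
  · exfalso
    simp only [existsLt, Bool.not_eq_true', ← Bool.not_eq_true, forallLt_iff] at h'
    push Not at h'
    obtain ⟨y, hy, hyc⟩ := h'
    simp only [Bool.not_eq_true', commB] at hyc
    refine absurd (hinj (table hi hy) (table hy hi) ?_) (fun e => hyc (by
      simp [e]))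
    rw [hmul hi hy, hmul hy hi, hit]
    exact (Subgroup.mem_centralizer_singleton_iff.1 (hmem y hy)).symm

end CfsgLib.Recog.MTwelveCent
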