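import Mathlib.GroupTheory.Perm.Sign
import Mathlib.GroupTheory.SpecificGroups.Alternating
import Mathlib.GroupTheory.Perm.Cycle.Type
import Mathlib.GroupTheory.OrderOfElement

/-!
Owner: helper11. Involutions of the symmetric groups of degree four and five.
-/

set_option autoImplicit false
set_option maxRecDepth 100000
set_option Elab.async false

namespace CfsgLib.Recog.MTwelveCent

open Equiv

/-- pairs of even involutions with product of odd order -/
abbrev EvenPairs (n : ℕ) : Type :=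
  {p : Perm (Fin n) × Perm (Fin n) //
    ((p.1 * p.1 = 1 ∧ p.1 ≠ 1) ∧ Perm.sign p.1 = 1) ∧
      ((p.2 * p.2 = 1 ∧ p.2 ≠ 1) ∧ Perm.sign p.2 = 1) ∧ (p.1 * p.2) ^ 15 = 1}

/-- the fifteen even involutions -/
def evenInv5 : Finset (Perm (Fin 5)) :=
  ([swap 0 1 * swap 2 3,
    swap 0 1 * swap 2 4,
    swap 0 1 * swap 3 4,
    swap 0 2 * swap 1 3,
    swap 0 2 * swap 1 4,
    swap 0 2 * swap 3 4,
    swap 0 3 * swap 1 2,
    swap 0 3 * swap 1 4,
    swap 0 3 * swap 2 4,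
    swap 0 4 * swap 1 2,
    swap 0 4 * swap 1 3,
    swap 0 4 * swap 2 3,
    swap 1 2 * swap 3 4,
    swap 1 3 * swap 2 4,
    swap 1 4 * swap 2 3] : List (Perm (Fin 5))).toFinset

theorem mem_evenInv5 : ∀ x : Perm (Fin 5), x ∈ evenInv5 ↔ ((x * x = 1 ∧ x ≠ 1) ∧ Perm.sign x = 1) := by
  decide +kernel

theorem card_evenPairs_four : Nat.card (EvenPairs 4) = 3 := by
  rw [Nat.card_eq_fintype_card]; decide +kernel

theorem orders_five :
    ∀ x : Perm (Fin 5), x ^ 1 = 1 ∨ x ^ 2 = 1 ∨ x ^ 3 = 1 ∨ x ^ 4 = 1 ∨ x ^ 5 = 1 ∨ x ^ 6 = 1 := by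
  decide +kernel

theorem cycleType_invol {n : ℕ} {x : Perm (Fin n)} (h : x * x = 1) (h1 : x ≠ 1) :
    ∃ k, x.cycleType = Multiset.replicate (k + 1) 2 ∧ (k + 1) * 2 ≤ n ∧
      Perm.sign x = (-1) ^ (k + 1) ∧ x.support.card = (k + 1) * 2 := by
  have : Fact (Nat.Prime 2) := ⟨Nat.prime_two⟩
  have h2 : orderOf x = 2 := orderOf_eq_prime (by rw [pow_two, h]) h1
  obtain ⟨k, hk⟩ := Perm.cycleType_prime_order (σ := x) (h2.symm ▸ Nat.prime_two)
  rw [h2] at hk
  have hs : x.support.card = (k + 1) * 2 := by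
    rw [← Perm.sum_cycleType, hk, Multiset.sum_replicate, smul_eq_mul]
  refine ⟨k, hk, ?_, ?_, hs⟩
  · rw [← hs]; exact x.support.card_le_univ.trans (by simp)
  · rw [Perm.sign_of_cycleType, hk, Multiset.sum_replicate, Multiset.card_replicate, smul_eq_mul,
      pow_add, pow_mul', neg_one_sq, one_pow, one_mul]

theorem conj_small {n : ℕ} (hn : n ≤ 5) : ∀ x : Perm (Fin n), x * x = 1 → x ≠ 1 →
    ∀ y : Perm (Fin n), y * y = 1 → y ≠ 1 →
    Perm.sign x = Perm.sign y → ∃ g, g * x * g⁻¹ = y := by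
  intro x hx hx1 y hy hy1 hs
  obtain ⟨k, hk, hkn, hks, -⟩ := cycleType_invol hx hx1
  obtain ⟨l, hl, hln, hls, -⟩ := cycleType_invol hy hy1
  rw [hks, hls] at hs
  have hkl : k = l := by
    obtain rfl | rfl : k = 0 ∨ k = 1 := by omega
    all_goals obtain rfl | rfl : l = 0 ∨ l = 1 := by omega
    all_goals first
      | rfl
      | exact absurd hs (by decide)
  exact isConj_iff.1 (Perm.isConj_iff_cycleType_eq.2 (by rw [hk, hl, hkl]))

theorem conj_four : ∀ x : Perm (Fin 4), x * x = 1 → x ≠ 1 → ∀ y : Perm (Fin 4), y * y = 1 → y ≠ 1 →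
    Perm.sign x = Perm.sign y → ∃ g, g * x * g⁻¹ = y := conj_small (by norm_num)

theorem conj_five : ∀ x : Perm (Fin 5), x * x = 1 → x ≠ 1 → ∀ y : Perm (Fin 5), y * y = 1 → y ≠ 1 →
    Perm.sign x = Perm.sign y → ∃ g, g * x * g⁻¹ = y := conj_small le_rfl

theorem alt_six_involutions : ∀ x : alternatingGroup (Fin 6), x * x = 1 → x ≠ 1 →
    ∀ y : alternatingGroup (Fin 6), y * y = 1 → y ≠ 1 → ∃ g, g * x * g⁻¹ = y := by
  intro x hx hx1 y hy hy1
  have key : ∀ z : alternatingGroup (Fin 6), z * z = 1 → z ≠ 1 →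
      (z : Perm (Fin 6)).cycleType = Multiset.replicate 2 2 ∧ (z : Perm (Fin 6)).support.card = 4 := by
    intro z hz hz1
    obtain ⟨k, hk, hkn, hks, hkc⟩ := cycleType_invol (x := (z : Perm (Fin 6)))
      (congrArg Subtype.val hz) (fun e => hz1 (Subtype.ext e))
    have hz' : Perm.sign (z : Perm (Fin 6)) = 1 := z.2
    rw [hz'] at hks
    obtain rfl | rfl | rfl : k = 0 ∨ k = 1 ∨ k = 2 := by omega
    · exact absurd hks (by decide)
    · exact ⟨hk, hkc⟩
    · exact absurd hks (by decide)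
  obtain ⟨h1, hc1⟩ := key x hx hx1
  obtain ⟨h2, -⟩ := key y hy hy1
  exact isConj_iff.1 (alternatingGroup.isConj_of (Perm.isConj_iff_cycleType_eq.2 (h1.trans h2.symm))
    (by rw [hc1]; simp))

theorem orders_four : ∀ x : Perm (Fin 4), x ^ 1 = 1 ∨ x ^ 2 = 1 ∨ x ^ 3 = 1 ∨ x ^ 4 = 1 := by
  decide +kernel

theorem card_evenPairs_five : Nat.card (EvenPairs 5) = 195 := by
  rw [Nat.card_eq_fintype_card, Fintype.card_subtype]
  have e : (Finset.univ.filter fun p : Perm (Fin 5) × Perm (Fin 5) =>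
    ((p.1 * p.1 = 1 ∧ p.1 ≠ 1) ∧ Perm.sign p.1 = 1) ∧
      ((p.2 * p.2 = 1 ∧ p.2 ≠ 1) ∧ Perm.sign p.2 = 1) ∧ (p.1 * p.2) ^ 15 = 1) =
    (evenInv5 ×ˢ evenInv5).filter fun p => (p.1 * p.2) ^ 15 = 1 := by
    ext p; simp [mem_evenInv5, and_assoc]
  rw [e]
  decide +kernel

end CfsgLib.Recog.MTwelveCent
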