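import Cfsg.Agent.Lib.Recog.MTwelveCent.Fusion
import Cfsg.Agent.Lib.Recog.MTwelveCent.PermFacts
import Cfsg.Agent.Lib.LocalEvenB.CentralizerDEight
import Cfsg.Agent.Lib.Recog.TwoSymFourFacts
import Cfsg.Agent.S1005

/-!
Owner: helper11. The centraliser of the second class of involutions.
-/

set_option autoImplicit false

namespace CfsgLib.Recog.MTwelveCent

open CfsgLib.Sporadic Subgroup

variable {G : Type*} [Group G] {t : G} (S : Setting t)

include S

/-- The second involution and the facts about its lift pattern that are used below. -/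
theorem u_facts : orderOf (S.ι iu) = 2 ∧ S.ι iu * t = t * S.ι iu ∧
    t * S.ι iu = S.ι (mul iz iu) ∧ cls (mul iz iu) = 3 ∧
    S.ι a0 * S.ι iu = S.ι iu * S.ι a0 ∧ cls a0 = 2 ∧ cls (mul a0 iu) = 3 ∧
    S.ι b0 * S.ι iu = S.ι iu * S.ι b0 ∧ cls b0 = 3 ∧ cls (mul b0 iu) = 3 ∧ b0 ≠ iu ∧
    S.ι g0 * S.ι iu = S.ι iu * S.ι g0 ∧ S.ι g0 * S.ι g0 = t ∧ cls (mul (mul a0 iz) iu) = 3 ∧
    cls (mul a0 iz) = 2 := by
  have h := du_ok
  simp only [Bool.and_eq_true, Nat.beq_eq, Bool.not_eq_true', ← Bool.not_eq_true] at h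
  obtain ⟨⟨⟨⟨⟨⟨⟨⟨⟨⟨⟨ha2, hac⟩, ha3⟩, hb3⟩, hbc⟩, hbu⟩, hbne⟩, hgc⟩, hg2⟩, -⟩, -⟩, -⟩ := h
  have hlt : iu < 192 ∧ a0 < 192 ∧ b0 < 192 ∧ g0 < 192 := by decide
  have hu : S.ι iu * t = t * S.ι iu := mem_centralizer_singleton_iff.1 (mem S hlt.1)
  refine ⟨(invol_iff S hlt.1).2 (by decide +kernel), hu, ?_, by decide +kernel,
    (commB_iff S hlt.2.1 hlt.1).1 hac, ha2, ha3, (commB_iff S hlt.2.2.1 hlt.1).1 hbc, hb3, hbu, hbne,
    (commB_iff S hlt.2.2.2 hlt.1).1 hgc, ?_, by decide +kernel, by decide +kernel⟩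
  · rw [S.map_mul iz_lt hlt.1, S.map_iz]
  · rw [← S.map_mul hlt.2.2.2 hlt.2.2.2, hg2, S.map_iz]

variable [Finite G] [IsSimpleGroup G] (hna : ¬ IsMulCommutative G)
include hna

theorem conj_t_of_cls_two {i : ℕ} (hi : i < 192) (h : cls i = 2) : IsConj t (S.ι i) :=
  (conj_a S hna).trans ((isConj_rep S hi).1 h)

omit hna [IsSimpleGroup G] in
/-- The centraliser of two commuting involutions, one conjugate to `t` and the other not. -/
theorem pgroup_inf {v y : G} (hv : IsConj t v) (hy : orderOf y = 2) (hyt : ¬ IsConj t y)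
    (hc : y * v = v * y) :
    IsPGroup 2 ↥(centralizer ({v} : Set G) ⊓ centralizer ({y} : Set G)) := by
  obtain ⟨c, hc'⟩ := isConj_iff.1 hv
  have hy' : c⁻¹ * y * c ∈ centralizer ({t} : Set G) := by
    rw [mem_centralizer_singleton_iff]
    calc c⁻¹ * y * c * t = c⁻¹ * (y * v) * c := by rw [← hc']; group
      _ = c⁻¹ * (v * y) * c := by rw [hc]
      _ = t * (c⁻¹ * y * c) := by rw [← hc']; group
  have hconj : IsConj (c⁻¹ * y * c) y := isConj_iff.2 ⟨c, by group⟩
  obtain ⟨i, hi, he, h1, h4⟩ := exists_invol_index S hy' ((CfsgLib.Signalizer.orderOf_of_isConj hconj).symm.trans hy)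
  have hne : cls i ≠ 1 := fun e => hyt (by
    have : IsConj (S.ι i) y := he ▸ hconj
    rwa [(cls_lt_six S hi).2.2.1 e, S.map_iz] at this)
  have hp := (pgroup_cent S hi ⟨by omega, h4⟩).1
  refine IsPGroup.of_injective hp
    { toFun := fun x => ⟨c⁻¹ * (x : G) * c, ?_⟩
      map_one' := Subtype.ext (by simp)
      map_mul' := fun x x' => Subtype.ext (by
        show c⁻¹ * ((x : G) * x') * c = c⁻¹ * x * c * (c⁻¹ * x' * c)
        group) } ?_
  · obtain ⟨hxv, hxy⟩ := mem_inf.1 x.2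
    rw [mem_centralizer_singleton_iff] at hxv hxy
    generalize hx' : (x : G) = x' at hxv hxy ⊢
    clear hx'
    refine mem_inf.2 ⟨mem_centralizer_singleton_iff.2 ?_, mem_centralizer_singleton_iff.2 ?_⟩
    · calc c⁻¹ * x' * c * t = c⁻¹ * (x' * v) * c := by rw [← hc']; group
        _ = c⁻¹ * (v * x') * c := by rw [hxv]
        _ = t * (c⁻¹ * x' * c) := by rw [← hc']; group
    · rw [he]
      calc c⁻¹ * x' * c * (c⁻¹ * y * c) = c⁻¹ * (x' * y) * c := by group
        _ = _ := by rw [hxy]; group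
  · intro x x' h
    exact Subtype.ext (mul_left_cancel (mul_right_cancel (congrArg Subtype.val h)))

omit hna [IsSimpleGroup G] in
theorem not_conj_t_idx {i : ℕ} (hi : i < 192) (h : cls i = 3) : ¬ IsConj t (S.ι i) := not_conj_u S hi h

/-- decoding of the eight codes -/
def dec (k : ℕ) : DihedralGroup 4 :=
  if k < 4 then DihedralGroup.r (k : ZMod 4) else DihedralGroup.sr ((k : ZMod 4))

omit S [Finite G] [IsSimpleGroup G] hna in
theorem dec_facts : (forallLt 8 fun a => forallLt 8 fun b =>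
    decide (dec (dmul a b) = dec a * dec b) && Nat.blt (dmul a b) 8) = true ∧
    (forallLt 8 fun a => decide (dec a = 1) == Nat.beq a 0) = true ∧
    (∀ x : DihedralGroup 4, ∃ k : Fin 8, dec k = x) := by
  refine ⟨?_, ?_, ?_⟩ <;> decide +kernel

/-- The alternatives for the centraliser of the second class. -/
def CentLift (n : ℕ) : Prop :=
  ∃ π : ↥(centralizer ({S.ι iu} : Set G)) →* Equiv.Perm (Fin n),
    Function.Surjective π ∧ ∀ x : ↥(centralizer ({S.ι iu} : Set G)),
      π x = 1 ↔ ((x : G) = 1 ∨ (x : G) = S.ι iu)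

theorem cent_cases : (centralizer ({S.ι iu} : Set G) ≤ centralizer ({t} : Set G)) ∨
    CentLift S 4 ∨ CentLift S 5 := by
  classical
  haveI : Fact (Nat.Prime 2) := ⟨Nat.prime_two⟩
  obtain ⟨hu2, hut, htu, hzu3, hac, ha2, hau3, hbc, hb3, hbu3, hbne, hgc, hgg, hazu3, haz2⟩ := u_facts S
  have hlt : iu < 192 ∧ a0 < 192 ∧ b0 < 192 ∧ g0 < 192 := by decide
  set u := S.ι iu with hudef
  set U := centralizer ({u} : Set G) with hUdef
  have huu : u * u = 1 := by rw [← pow_two, ← hu2, pow_orderOf_eq_one]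
  have huU : u ∈ U := mem_centralizer_singleton_iff.2 rfl
  let uU : U := ⟨u, huU⟩
  set N : Subgroup U := zpowers uU with hN
  have hNmem : ∀ x : U, x ∈ N ↔ ((x : G) = 1 ∨ (x : G) = u) := by
    intro x
    constructor
    · intro hx
      obtain ⟨k, rfl⟩ := mem_zpowers_iff.1 hx
      rw [Subgroup.coe_zpow]
      have huz : u ^ (2 : ℤ) = 1 := by rw [zpow_ofNat, pow_two, huu]
      rcases Int.even_or_odd' k with ⟨m, rfl | rfl⟩
      · left; show u ^ (2 * m) = 1
        rw [zpow_mul, huz, one_zpow]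
      · right; show u ^ (2 * m + 1) = u
        rw [zpow_add, zpow_mul, huz, one_zpow, one_mul, zpow_one]
    · rintro (h | h)
      · rw [show x = 1 from Subtype.ext h]; exact one_mem _
      · rw [show x = uU from Subtype.ext h]; exact mem_zpowers _
  haveI hNn : N.Normal := ⟨fun x hx g => by
    rw [hNmem] at hx ⊢
    rcases hx with h | h
    · left; show (g : G) * x * (g : G)⁻¹ = 1
      rw [h]; group
    · right; show (g : G) * x * (g : G)⁻¹ = u
      rw [h, mem_centralizer_singleton_iff.1 g.2, mul_inv_cancel_right]⟩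
  let π := QuotientGroup.mk' N
  have hπ : ∀ x : U, π x = 1 ↔ ((x : G) = 1 ∨ (x : G) = u) := fun x =>
    (QuotientGroup.eq_one_iff x).trans (hNmem x)
  have hπeq : ∀ x y : U, π x = π y → (y : G) = x ∨ (y : G) = x * u := by
    intro x y h
    rcases (hπ (x⁻¹ * y)).1 (by rw [map_mul, map_inv, h, inv_mul_cancel]) with h' | h'
    · left
      have h'' : (x : G)⁻¹ * y = 1 := h'
      exact (inv_mul_eq_one.1 h'').symm
    · right
      have h'' : (x : G)⁻¹ * y = u := h'
      rw [← h'', mul_inv_cancel_left]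
  -- two-groups among the centralisers
  have hpi : ∀ v : U, IsConj t (v : G) → ¬ IsConj t ((v : G) * u) →
      IsPGroup 2 (centralizer ({π v} : Set (U ⧸ N))) := by
    intro v hv hvu
    have hp := pgroup_inf S (v := (v : G)) hv hu2 (not_conj_u S hlt.1 (by decide +kernel))
      (mem_centralizer_singleton_iff.1 v.2).symm
    have hsub : centralizer ({π v} : Set (U ⧸ N)) ≤
        ((centralizer ({(v : G)} : Set G) ⊓ centralizer ({u} : Set G)).subgroupOf U).map π := by
      intro q hq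
      obtain ⟨g, rfl⟩ := QuotientGroup.mk'_surjective N q
      refine ⟨g, mem_subgroupOf.2 (mem_inf.2 ⟨?_, g.2⟩), rfl⟩
      rcases hπeq v (g * v * g⁻¹) (by
        rw [map_mul, map_mul, map_inv, mem_centralizer_singleton_iff.1 hq, mul_inv_cancel_right])
        with h | h
      · exact mem_centralizer_singleton_iff.2 (mul_inv_eq_iff_eq_mul.1 h)
      · exact absurd (hv.trans (isConj_iff.2 ⟨g, h⟩)) hvu
    exact ((hp.comap_subtype).map π).to_le hsub
  -- the image of `t`
  have htU : t ∈ U := mem_centralizer_singleton_iff.2 hut.symm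
  let tU : U := ⟨t, htU⟩
  have htn1 : t ≠ 1 := fun h => by
    have := ord_t S
    rw [h, orderOf_one] at this
    norm_num at this
  have hz2 : orderOf (π tU) = 2 := by
    refine orderOf_eq_prime ?_ fun h => ?_
    · rw [← map_pow, show tU ^ 2 = 1 from Subtype.ext (by
        show t ^ 2 = 1
        rw [← ord_t S, pow_orderOf_eq_one]), map_one]
    · rcases (hπ tU).1 h with h | h
      · exact htn1 h
      · exact not_conj_u S hlt.1 (by decide +kernel) (by rw [← hudef, ← (h : t = u)])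
  have hzcls : ¬ IsConj t (t * u) := by
    rw [htu]
    exact not_conj_u S (table iz_lt hlt.1) hzu3
  -- the centraliser of the image of `t` is dihedral
  set D := (centralizer ({t} : Set G) ⊓ U).subgroupOf U with hDdef
  have hDidx : ∀ x : D, ∃ i < 192, commB i iu = true ∧ S.ι i = ((x : U) : G) := by
    intro x
    obtain ⟨i, hi, he⟩ := exists_index S (mem_inf.1 (mem_subgroupOf.1 x.2)).1
    exact ⟨i, hi, (commB_iff S hi hlt.1).2 (by
      rw [he]; exact mem_centralizer_singleton_iff.1 (mem_inf.1 (mem_subgroupOf.1 x.2)).2), he⟩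
  choose idx hidx hidxc hidxe using hDidx
  have hdu := du_ok
  simp only [Bool.and_eq_true] at hdu
  have hd : ∀ i, i < 192 → commB i iu = true → d8 i < 8 ∧ (d8 i = 0 ↔ i = 0 ∨ i = iu) ∧
      ∀ j, j < 192 → commB j iu = true → d8 (mul i j) = dmul (d8 i) (d8 j) := by
    intro i hi hc
    have h := forallLt_elim hdu.1.2 hi
    simp only [hc, Bool.not_true, Bool.false_or, Bool.and_eq_true, Nat.blt_eq, beq_iff_eq] at h
    have h0 := Bool.eq_iff_iff.1 h.1.2
    simp only [Bool.or_eq_true, Nat.beq_eq] at h0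
    refine ⟨h.1.1.2, h0, fun j hj hcj => ?_⟩
    have := forallLt_elim h.2 hj
    simpa [hcj, Nat.beq_eq] using this
  have hdec := dec_facts
  let f : D →* DihedralGroup 4 := MonoidHom.mk' (fun x => dec (d8 (idx x))) (fun x y => by
    have e : idx (x * y) = mul (idx x) (idx y) := S.inj (hidx _) (table (hidx x) (hidx y)) (by
      rw [hidxe, S.map_mul (hidx x) (hidx y), hidxe, hidxe]; rfl)
    show dec (d8 (idx (x * y))) = dec (d8 (idx x)) * dec (d8 (idx y))
    rw [e, (hd _ (hidx x) (hidxc x)).2.2 _ (hidx y) (hidxc y)]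
    have h := forallLt_elim (forallLt_elim hdec.1 (hd _ (hidx x) (hidxc x)).1) (hd _ (hidx y) (hidxc y)).1
    simp only [Bool.and_eq_true, decide_eq_true_eq] at h
    exact h.1)
  have hfs : Function.Surjective f := by
    intro w
    obtain ⟨k, hk⟩ := hdec.2.2 w
    obtain ⟨i, hi, hh⟩ := existsLt_iff.1 (forallLt_elim hdu.2 k.2)
    simp only [Bool.and_eq_true, Nat.beq_eq] at hh
    have hiU : S.ι i ∈ U := mem_centralizer_singleton_iff.2 ((commB_iff S hi hlt.1).1 hh.1)
    refine ⟨⟨⟨S.ι i, hiU⟩, mem_subgroupOf.2 (mem_inf.2 ⟨mem S hi, hiU⟩)⟩, ?_⟩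
    show dec (d8 (idx _)) = w
    rw [S.inj (hidx _) hi (hidxe _), hh.2, hk]
  have hfk : ∀ x : D, f x = 1 ↔ (((x : U) : G) = 1 ∨ ((x : U) : G) = u) := by
    intro x
    have h := forallLt_elim hdec.2.1 (hd _ (hidx x) (hidxc x)).1
    simp only [beq_iff_eq] at h
    have h' := Bool.eq_iff_iff.1 h
    simp only [decide_eq_true_eq, Nat.beq_eq] at h'
    show dec _ = 1 ↔ _
    rw [h', (hd _ (hidx x) (hidxc x)).2.1, ← hidxe x, hudef, ← ι_zero S]
    exact ⟨Or.imp (fun e => by rw [e]) (fun e => by rw [e]),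
      Or.imp (fun e => S.inj (hidx x) (by norm_num) e) (fun e => S.inj (hidx x) hlt.1 e)⟩
  let g : D →* centralizer ({π tU} : Set (U ⧸ N)) :=
    (π.comp D.subtype).codRestrict _ fun x => by
      refine mem_centralizer_singleton_iff.2 ?_
      show π x * π tU = π tU * π x
      rw [← map_mul, ← map_mul]
      exact congrArg π (Subtype.ext (mem_centralizer_singleton_iff.1 (mem_inf.1 (mem_subgroupOf.1 x.2)).1))
  have hgs : Function.Surjective g := by
    rintro ⟨q, hq⟩
    obtain ⟨y, rfl⟩ := QuotientGroup.mk'_surjective N q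
    refine ⟨⟨y, mem_subgroupOf.2 (mem_inf.2 ⟨?_, y.2⟩)⟩, rfl⟩
    rcases hπeq tU (y * tU * y⁻¹) (by
      rw [map_mul, map_mul, map_inv, mem_centralizer_singleton_iff.1 hq, mul_inv_cancel_right])
      with h | h
    · exact mem_centralizer_singleton_iff.2 (mul_inv_eq_iff_eq_mul.1 h)
    · exact absurd (isConj_iff.2 ⟨(y : G), h⟩ : IsConj t (t * u)) hzcls
  have hker : g.ker = f.ker := by
    ext x
    rw [MonoidHom.mem_ker, MonoidHom.mem_ker, hfk]
    exact ⟨fun h => (hπ _).1 (congrArg Subtype.val h), fun h => Subtype.ext ((hπ _).2 h)⟩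
  have hC : Nonempty (centralizer ({π tU} : Set (U ⧸ N)) ≃* DihedralGroup 4) :=
    ⟨((QuotientGroup.quotientKerEquivOfSurjective g hgs).symm.trans
      (QuotientGroup.quotientMulEquivOfEq hker)).trans (QuotientGroup.quotientKerEquivOfSurjective f hfs)⟩
  -- the core is trivial
  have haU : S.ι a0 ∈ U := mem_centralizer_singleton_iff.2 hac
  let aU : U := ⟨S.ι a0, haU⟩
  have hconjA := conj_t_of_cls_two S hna hlt.2.1 ha2
  have haz : S.ι a0 * t = S.ι (mul a0 iz) := by rw [S.map_mul hlt.2.1 iz_lt, S.map_iz]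
  have hconjAZ : IsConj t (S.ι a0 * t) := haz ▸ conj_t_of_cls_two S hna (table hlt.2.1 iz_lt) haz2
  have hA1 : ¬ IsConj t (S.ι a0 * u) := by
    rw [hudef, ← S.map_mul hlt.2.1 hlt.1]
    exact not_conj_u S (table hlt.2.1 hlt.1) hau3
  have hA2 : ¬ IsConj t (S.ι a0 * t * u) := by
    rw [haz, hudef, ← S.map_mul (table hlt.2.1 iz_lt) hlt.1]
    exact not_conj_u S (table (table hlt.2.1 iz_lt) hlt.1) hazu3
  have ha_ne : π aU ≠ π tU := by
    intro h
    rcases hπeq tU aU h.symm with h' | h'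
    · have := S.inj hlt.2.1 iz_lt ((h' : S.ι a0 = t).trans S.map_iz.symm)
      exact absurd this (by decide)
    · exact hzcls ((h' : S.ι a0 = t * u) ▸ hconjA)
  have ha_ord : orderOf (π aU) = 2 := by
    refine orderOf_eq_prime ?_ fun h => ?_
    · rw [← map_pow, show aU ^ 2 = 1 from Subtype.ext (by
        show S.ι a0 ^ 2 = 1
        rw [← (invol_iff S hlt.2.1).2 (by omega), pow_orderOf_eq_one]), map_one]
    · rcases (hπ aU).1 h with h | h
      · have := (ι_eq_one_iff S hlt.2.1).1 h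
        exact absurd this (by decide)
      · refine not_conj_u S hlt.1 (by decide +kernel) ?_
        have h' : S.ι a0 = u := h
        rw [← hudef, ← h']
        exact conj_t_of_cls_two S hna hlt.2.1 ha2
  have hcore : Cfsg.oddCore (U ⧸ N) = ⊥ := by
    refine CfsgLib.LocalEvenB.DEight.oddCore_eq_bot ha_ord hz2 ?_ ha_ne (hpi aU hconjA hA1)
      (hpi tU (IsConj.refl t) hzcls) ?_
    · rw [← map_mul, ← map_mul]
      exact congrArg π (Subtype.ext (mem_centralizer_singleton_iff.1 (mem S hlt.2.1)))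
    · rw [← map_mul]
      exact hpi (aU * tU) hconjAZ hA2
  -- the second kind of involution
  have hbU : S.ι b0 ∈ U := mem_centralizer_singleton_iff.2 hbc
  let bU : U := ⟨S.ι b0, hbU⟩
  have hb_ord : orderOf (π bU) = 2 := by
    refine orderOf_eq_prime ?_ fun h => ?_
    · rw [← map_pow, show bU ^ 2 = 1 from Subtype.ext (by
        show S.ι b0 ^ 2 = 1
        rw [← (invol_iff S hlt.2.2.1).2 (by omega), pow_orderOf_eq_one]), map_one]
    · rcases (hπ bU).1 h with h | h
      · have := (ι_eq_one_iff S hlt.2.2.1).1 h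
        exact absurd this (by decide)
      · exact hbne (S.inj hlt.2.2.1 hlt.1 h)
  have hnb : ∀ q : U ⧸ N, q * π tU * q⁻¹ ≠ π bU := by
    intro q hq
    obtain ⟨y, rfl⟩ := QuotientGroup.mk'_surjective N q
    rcases hπeq bU (y * tU * y⁻¹) (by rw [map_mul, map_mul, map_inv]; exact hq.symm) with h | h
    · exact not_conj_u S hlt.2.2.1 hb3 (isConj_iff.2 ⟨y, h⟩)
    · refine not_conj_u S (table hlt.2.2.1 hlt.1) hbu3 (isConj_iff.2 ⟨y, ?_⟩)
      rw [S.map_mul hlt.2.2.1 hlt.1]
      exact h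
  have hlift : ∀ n, Nonempty ((U ⧸ N) ≃* Equiv.Perm (Fin n)) → CentLift S n := by
    rintro n ⟨φ⟩
    exact ⟨φ.toMonoidHom.comp π, φ.surjective.comp (QuotientGroup.mk'_surjective N),
      fun x => φ.map_eq_one_iff.trans (hπ x)⟩
  rcases CfsgLib.LocalEvenB.DEight.main (π tU) hz2 hC with h | h | h | ⟨⟨φ⟩⟩ | ⟨⟨φ⟩⟩
  · left
    rw [hcore, sup_bot_eq] at h
    intro x hx
    have hq : π ⟨x, hx⟩ ∈ centralizer ({π tU} : Set (U ⧸ N)) := h ▸ mem_top _
    obtain ⟨y, hy⟩ := hgs ⟨_, hq⟩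
    rcases hπeq (y : U) ⟨x, hx⟩ (congrArg Subtype.val hy) with h' | h'
    · rw [show x = ((y : U) : G) from h']
      exact (mem_inf.1 (mem_subgroupOf.1 y.2)).1
    · rw [show x = ((y : U) : G) * u from h']
      exact mul_mem (mem_inf.1 (mem_subgroupOf.1 y.2)).1 (mem S hlt.1)
  · exact Or.inr (Or.inl (hlift 4 h))
  · exact Or.inr (Or.inr (hlift 5 h))
  · exfalso
    obtain ⟨hs, hcard⟩ := CfsgLib.Recog.TwoSFour.seven_simple φ
    haveI := hs
    obtain ⟨q, hq⟩ := isConj_iff.1 ((Cfsg.Agent.S1005.result hcard).2.2 (π tU) (π bU) hz2 hb_ord)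
    exact hnb q hq
  · exfalso
    have hsq : ∀ q : U ⧸ N, orderOf q = 2 → φ q * φ q = 1 ∧ φ q ≠ 1 := fun q hq => by
      refine ⟨?_, fun h => ?_⟩
      · rw [← map_mul, ← pow_two, ← hq, pow_orderOf_eq_one, map_one]
      · rw [φ.map_eq_one_iff.1 h, orderOf_one] at hq
        norm_num at hq
    obtain ⟨q, hq⟩ := alt_six_involutions _ (hsq _ hz2).1 (hsq _ hz2).2 _ (hsq _ hb_ord).1 (hsq _ hb_ord).2
    exact hnb (φ.symm q) (φ.injective (by simpa using hq))

end CfsgLib.Recog.MTwelveCent
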