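import Cfsg.Agent.Lib.Recog.MTwelveCent.Fusion

/-!
Owner: helper11. Counting pairs of involutions through the table, and the two possible fusion patterns.
-/

set_option autoImplicit false

namespace CfsgLib.Recog.MTwelveCent

open CfsgLib.Sporadic Subgroup
open CfsgLib.Signalizer (ClassPairs)

theorem pairRec_eq (n : ℕ) (X : ℕ → Bool) (c : ℕ → ℕ) :
    Nat.rec (motive := fun _ => ℕ) 0 (fun x ih => Nat.add (bif X x then c x else 0) ih) n =
      ∑ x ∈ (Finset.range n).filter (fun x => X x = true), c x := by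
  induction n with
  | zero => simp
  | succ n ih =>
    show Nat.add (bif X n then c n else 0) _ = _
    rw [ih, Finset.range_add_one, Finset.filter_insert]
    cases hX : X n
    · simp
    · simp [Finset.sum_insert]

theorem pairCount_eq (v : ℕ) (X Y : ℕ → Bool) : pairCount v X Y =
    ((Finset.range 192 ×ˢ Finset.range 192).filter
      (fun p => X p.1 = true ∧ Y p.2 = true ∧ hasPow v (mul p.1 p.2) = true)).card := by
  classical
  delta pairCount
  generalize (192 : ℕ) = N
  rw [pairRec_eq, Finset.card_filter, Finset.sum_product, Finset.sum_filter]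
  refine Finset.sum_congr rfl fun x _ => ?_
  rw [countLt_eq, Finset.card_filter]
  by_cases hx : X x = true <;> simp [hx, Bool.and_eq_true]

theorem powers_ok : forallLt 192 (fun x => hasPow 0 x) = true := by decide +kernel

variable {G : Type*} [Group G] {t : G} (S : Setting t)

include S

theorem hasPow_iff {x v : ℕ} (hx : x < 192) (hv : v < 192) :
    hasPow v x = true ↔ ∃ k, k < 8 ∧ S.ι x ^ (k + 1) = S.ι v := by
  let F : ℕ → ℕ → Bool := fun n => Nat.rec (motive := fun _ => ℕ → Bool) (fun _ => false)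
    (fun _ ih p => Nat.beq p v || ih (mul x p)) n
  have key : ∀ n p, p < 192 → (F n p = true ↔ ∃ k, k < n ∧ S.ι x ^ k * S.ι p = S.ι v) := by
    intro n
    induction n with
    | zero => intro p _; simp [F]
    | succ n ih =>
      intro p hp
      show (Nat.beq p v || F n (mul x p)) = true ↔ _
      rw [Bool.or_eq_true, Nat.beq_eq, ih _ (table hx hp)]
      constructor
      · rintro (rfl | ⟨k, hk, e⟩)
        · exact ⟨0, Nat.succ_pos n, by rw [pow_zero, one_mul]⟩
        · exact ⟨k + 1, by omega, by rw [pow_succ, mul_assoc, ← S.map_mul hx hp, e]⟩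
      · rintro ⟨k, hk, e⟩
        rcases k with _ | k
        · rw [pow_zero, one_mul] at e
          exact Or.inl (S.inj hp hv e)
        · exact Or.inr ⟨k, by omega, by rw [S.map_mul hx hp, ← mul_assoc, ← pow_succ, e]⟩
  show F 8 x = true ↔ _
  rw [key 8 x hx]
  simp only [pow_succ]

theorem hasPow_iff_zpowers {x v : ℕ} (hx : x < 192) (hv : v < 192) :
    hasPow v x = true ↔ S.ι v ∈ zpowers (S.ι x) := by
  rw [hasPow_iff S hx hv]
  constructor
  · rintro ⟨k, -, e⟩
    exact e ▸ pow_mem (mem_zpowers _) _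
  · intro h
    obtain ⟨k, hk, e⟩ := (hasPow_iff S hx (by norm_num : (0 : ℕ) < 192)).1 (forallLt_elim powers_ok hx)
    rw [ι_zero S] at e
    obtain ⟨n, hn⟩ := mem_zpowers_iff.1 h
    set m := (n % (k + 1 : ℕ)).toNat with hm
    have hm' : S.ι x ^ m = S.ι v := by
      rw [← hn, ← zpow_natCast, hm, Int.toNat_of_nonneg (Int.emod_nonneg _ (by omega))]
      conv_rhs => rw [← Int.emod_add_mul_ediv n (k + 1 : ℕ), zpow_add, zpow_mul, zpow_natCast, e, one_zpow,
        mul_one]
    have hlt : m < k + 1 := by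
      have := Int.emod_lt_of_pos n (show (0 : ℤ) < (k + 1 : ℕ) by omega)
      omega
    rcases Nat.eq_zero_or_pos m with h0 | h0
    · exact ⟨k, hk, by rw [e, ← hm', h0, pow_zero]⟩
    · exact ⟨m - 1, by omega, by rw [show m - 1 + 1 = m by omega, hm']⟩

theorem card_pairs (v : ℕ) (hv : v < 192) (A B : G → Prop) (X Y : ℕ → Bool)
    (hX : ∀ i < 192, A (S.ι i) ↔ X i = true) (hY : ∀ i < 192, B (S.ι i) ↔ Y i = true)
    (hA : ∀ x y : G, A x → B y → S.ι v ∈ zpowers (x * y) →
      x ∈ centralizer ({t} : Set G) ∧ y ∈ centralizer ({t} : Set G)) :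
    Nat.card {p : G × G // A p.1 ∧ B p.2 ∧ S.ι v ∈ zpowers (p.1 * p.2)} = pairCount v X Y := by
  classical
  rw [pairCount_eq, ← Nat.card_eq_finsetCard]
  obtain ⟨R, hR⟩ : ∃ R : Finset ℕ, R = Finset.range 192 := ⟨_, rfl⟩
  have hmem : ∀ i, i ∈ R ↔ i < 192 := fun i => by rw [hR, Finset.mem_range]
  rw [← hR]
  refine (Nat.card_congr (Equiv.ofBijective (fun q =>
    (⟨(S.ι q.1.1, S.ι q.1.2), by
      obtain ⟨⟨i, j⟩, hq⟩ := q
      simp only [Finset.mem_filter, Finset.mem_product, hmem] at hq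
      refine ⟨(hX i hq.1.1).2 hq.2.1, (hY j hq.1.2).2 hq.2.2.1, ?_⟩
      show S.ι v ∈ zpowers (S.ι i * S.ι j)
      rw [← S.map_mul hq.1.1 hq.1.2, ← hasPow_iff_zpowers S (table hq.1.1 hq.1.2) hv]
      exact hq.2.2.2⟩ : {p : G × G // A p.1 ∧ B p.2 ∧ S.ι v ∈ zpowers (p.1 * p.2)})) ⟨?_, ?_⟩)).symm
  · rintro ⟨⟨i, j⟩, hq⟩ ⟨⟨i', j'⟩, hq'⟩ h
    simp only [Finset.mem_filter, Finset.mem_product, hmem] at hq hq'
    simp only [Subtype.mk.injEq, Prod.mk.injEq] at h
    obtain rfl := S.inj hq.1.1 hq'.1.1 h.1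
    obtain rfl := S.inj hq.1.2 hq'.1.2 h.2
    rfl
  · rintro ⟨⟨x, y⟩, hx, hy, hp⟩
    obtain ⟨hxC, hyC⟩ := hA x y hx hy hp
    obtain ⟨i, hi, rfl⟩ := exists_index S hxC
    obtain ⟨j, hj, rfl⟩ := exists_index S hyC
    refine ⟨⟨(i, j), ?_⟩, rfl⟩
    simp only [Finset.mem_filter, Finset.mem_product, hmem]
    refine ⟨⟨hi, hj⟩, (hX i hi).1 hx, (hY j hj).1 hy, ?_⟩
    rw [hasPow_iff_zpowers S (table hi hj) hv, S.map_mul hi hj]
    exact hp

omit S in
theorem inverts_left {x y : G} (hx : x * x = 1) (hy : y * y = 1) :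
    x * (x * y) * x⁻¹ = (x * y)⁻¹ := by
  rw [mul_inv_rev, inv_eq_of_mul_eq_one_left hx, inv_eq_of_mul_eq_one_left hy, ← mul_assoc x x y,
    hx, one_mul]

omit S in
theorem commute_of_zpowers {x y v : G} (hx : orderOf x = 2) (hy : orderOf y = 2) (hv : orderOf v = 2)
    (h : v ∈ zpowers (x * y)) :
    x ∈ centralizer ({v} : Set G) ∧ y ∈ centralizer ({v} : Set G) := by
  have hxx : x * x = 1 := by rw [← pow_two, ← hx, pow_orderOf_eq_one]
  have hyy : y * y = 1 := by rw [← pow_two, ← hy, pow_orderOf_eq_one]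
  have hvv : v * v = 1 := by rw [← pow_two, ← hv, pow_orderOf_eq_one]
  obtain ⟨n, rfl⟩ := mem_zpowers_iff.1 h
  have h1 : x * (x * y) ^ n * x⁻¹ = (x * y) ^ n := by
    rw [← conj_zpow, inverts_left hxx hyy, inv_zpow]
    exact inv_eq_of_mul_eq_one_left hvv
  have hcx : x * (x * y) ^ n = (x * y) ^ n * x := mul_inv_eq_iff_eq_mul.1 h1
  refine ⟨mem_centralizer_singleton_iff.2 hcx, mem_centralizer_singleton_iff.2 ?_⟩
  have e : y = x⁻¹ * (x * y) := by group
  calc y * (x * y) ^ n = x⁻¹ * (x * y * (x * y) ^ n) := by rw [← mul_assoc x⁻¹ (x * y), ← e]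
    _ = x⁻¹ * ((x * y) ^ n * (x * y)) := by rw [(Commute.self_zpow (x * y) n).eq]
    _ = (x * y) ^ n * x⁻¹ * (x * y) := by
        rw [← mul_assoc, show x⁻¹ * (x * y) ^ n = (x * y) ^ n * x⁻¹ by
          rw [inv_eq_of_mul_eq_one_left hxx]; exact hcx]
    _ = (x * y) ^ n * y := by group

variable [Finite G] [IsSimpleGroup G] (hna : ¬ IsMulCommutative G)
include hna

/-- A pattern of fusion: `X` lists the class of `t`, `Y` the other class. -/
def Pattern (X Y : ℕ → Bool) : Prop :=
  (∀ i < 192, IsConj t (S.ι i) ↔ X i = true) ∧ ∀ i < 192, IsConj (S.ι iu) (S.ι i) ↔ Y i = true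

theorem pattern_cases :
    (IsConj t (S.ι iw) ∧ Pattern S zFused uFused) ∨
      (IsConj (S.ι iu) (S.ι iw) ∧ Pattern S zSplit uSplit) := by
  have hlt : ia < 192 ∧ iu < 192 ∧ iw < 192 := by decide
  have hu3 : cls iu = 3 := by decide +kernel
  have hnot : ∀ x : G, IsConj t x → IsConj (S.ι iu) x → False := fun x h h' =>
    not_conj_u S hlt.2.1 hu3 (h.trans h'.symm)
  have hinv : ∀ i < 192, (IsConj t (S.ι i) ∨ IsConj (S.ι iu) (S.ι i)) → 1 ≤ cls i ∧ cls i ≤ 4 := by
    intro i hi h
    refine (invol_iff S hi).1 ?_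
    rcases h with h | h
    · exact (CfsgLib.Signalizer.orderOf_of_isConj h).trans (ord_t S)
    · exact (CfsgLib.Signalizer.orderOf_of_isConj h).trans ((invol_iff S hlt.2.1).2 (by omega))
  have h1 : ∀ i < 192, cls i = 1 → IsConj t (S.ι i) := fun i hi h => by
    rw [(cls_lt_six S hi).2.2.1 h, S.map_iz]
  have h2 : ∀ i < 192, cls i = 2 → IsConj t (S.ι i) := fun i hi h =>
    (conj_a S hna).trans ((isConj_rep S hi).1 h)
  rcases conj_w S hna with hw | hw
  · left
    have h4 : ∀ i < 192, cls i = 4 → IsConj t (S.ι i) := fun i hi h => hw.trans ((isConj_rep S hi).2.2 h)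
    refine ⟨hw, fun i hi => ?_, fun i hi => ?_⟩
    · simp only [zFused, Bool.or_eq_true, Nat.beq_eq]
      constructor
      · intro h
        have := hinv i hi (Or.inl h)
        have : cls i ≠ 3 := fun e => hnot _ h ((isConj_rep S hi).2.1 e)
        omega
      · rintro ((h | h) | h)
        exacts [h1 i hi h, h2 i hi h, h4 i hi h]
    · simp only [uFused, Nat.beq_eq]
      refine ⟨fun h => ?_, fun h => (isConj_rep S hi).2.1 h⟩
      have := hinv i hi (Or.inr h)
      by_contra hne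
      obtain e | e | e : cls i = 1 ∨ cls i = 2 ∨ cls i = 4 := by omega
      exacts [hnot _ (h1 i hi e) h, hnot _ (h2 i hi e) h, hnot _ (h4 i hi e) h]
  · right
    have h4 : ∀ i < 192, cls i = 4 → IsConj (S.ι iu) (S.ι i) := fun i hi h =>
      hw.trans ((isConj_rep S hi).2.2 h)
    refine ⟨hw, fun i hi => ?_, fun i hi => ?_⟩
    · simp only [zSplit, Bool.or_eq_true, Nat.beq_eq]
      constructor
      · intro h
        have := hinv i hi (Or.inl h)
        have : cls i ≠ 3 := fun e => hnot _ h ((isConj_rep S hi).2.1 e)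
        have : cls i ≠ 4 := fun e => hnot _ h (h4 i hi e)
        omega
      · rintro (h | h)
        exacts [h1 i hi h, h2 i hi h]
    · simp only [uSplit, Bool.or_eq_true, Nat.beq_eq]
      constructor
      · intro h
        have := hinv i hi (Or.inr h)
        have : cls i ≠ 1 := fun e => hnot _ (h1 i hi e) h
        have : cls i ≠ 2 := fun e => hnot _ (h2 i hi e) h
        omega
      · rintro (h | h)
        exacts [(isConj_rep S hi).2.1 h, h4 i hi h]

omit hna [IsSimpleGroup G] in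
theorem card_classPairs_t {X Y : ℕ → Bool} (h : Pattern S X Y) :
    Nat.card (ClassPairs t (S.ι iu) t) = pairCount iz X Y := by
  have hu : orderOf (S.ι iu) = 2 := (invol_iff S (by decide)).2 (by decide +kernel)
  have := card_pairs S iz iz_lt (fun x => IsConj t x) (fun y => IsConj (S.ι iu) y) X Y h.1 h.2
    (fun x y hx hy hp => by
      rw [S.map_iz] at hp
      exact commute_of_zpowers ((CfsgLib.Signalizer.orderOf_of_isConj hx).trans (ord_t S))
        ((CfsgLib.Signalizer.orderOf_of_isConj hy).trans hu) (ord_t S) hp)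
  rw [S.map_iz] at this
  exact this

omit hna [IsSimpleGroup G] in
theorem card_classPairs_u_of_le (hle : centralizer ({S.ι iu} : Set G) ≤ centralizer ({t} : Set G))
    {X Y : ℕ → Bool} (h : Pattern S X Y) :
    Nat.card (ClassPairs t (S.ι iu) (S.ι iu)) =
      pairCount iu (fun x => X x && commB x iu) (fun y => Y y && commB y iu) := by
  have hlt : iu < 192 := by decide
  have hu : orderOf (S.ι iu) = 2 := (invol_iff S hlt).2 (by decide +kernel)
  have key : ∀ x y : G, IsConj t x → IsConj (S.ι iu) y → S.ι iu ∈ zpowers (x * y) →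
      x ∈ centralizer ({S.ι iu} : Set G) ∧ y ∈ centralizer ({S.ι iu} : Set G) := fun x y hx hy hp =>
    commute_of_zpowers ((CfsgLib.Signalizer.orderOf_of_isConj hx).trans (ord_t S))
      ((CfsgLib.Signalizer.orderOf_of_isConj hy).trans hu) hu hp
  have := card_pairs S iu hlt (fun x => IsConj t x ∧ x ∈ centralizer ({S.ι iu} : Set G))
    (fun y => IsConj (S.ι iu) y ∧ y ∈ centralizer ({S.ι iu} : Set G))
    (fun x => X x && commB x iu) (fun y => Y y && commB y iu)
    (fun i hi => by rw [Bool.and_eq_true, ← h.1 i hi, mem_centralizer_singleton_iff, commB_iff S hi hlt])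
    (fun i hi => by rw [Bool.and_eq_true, ← h.2 i hi, mem_centralizer_singleton_iff, commB_iff S hi hlt])
    (fun x y hx hy _ => ⟨hle hx.2, hle hy.2⟩)
  rw [← this]
  exact Nat.card_congr (Equiv.subtypeEquivRight fun p =>
    ⟨fun hp => ⟨⟨hp.1, (key _ _ hp.1 hp.2.1 hp.2.2).1⟩, ⟨hp.2.1, (key _ _ hp.1 hp.2.1 hp.2.2).2⟩, hp.2.2⟩,
      fun hp => ⟨hp.1.1, hp.2.1.1, hp.2.2⟩⟩)

end CfsgLib.Recog.MTwelveCent
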