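import Cfsg.Agent.Lib.Recog.MTwelveCent.Centralizer
import Cfsg.Agent.Lib.Recog.MTwelveCent.Pairs

/-!
Owner: helper11. The pairs over the second class when its centraliser covers a symmetric group.
-/

set_option autoImplicit false

namespace CfsgLib.Recog.MTwelveCent

open CfsgLib.Sporadic Subgroup Equiv
open CfsgLib.Signalizer (ClassPairs)

theorem pow_eq_one_of_odd {H : Type*} [Group H] [Finite H] {x : H} {m : ℕ} (hm : Odd m)
    (hdvd : x ^ m = 1) (hle : orderOf x ≤ 6) : x ^ 15 = 1 := by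
  have hd : orderOf x ∣ m := orderOf_dvd_of_pow_eq_one hdvd
  have hodd : Odd (orderOf x) := Odd.of_dvd_nat hm hd
  have hpos : 0 < orderOf x := orderOf_pos x
  refine orderOf_dvd_iff_pow_eq_one.1 ?_
  obtain ⟨k, hk⟩ := hodd
  obtain h | h | h : orderOf x = 1 ∨ orderOf x = 3 ∨ orderOf x = 5 := by omega
  all_goals rw [h]; norm_num

variable {G : Type*} [Group G] {t : G} (S : Setting t) [Finite G] [IsSimpleGroup G]
  (hna : ¬ IsMulCommutative G)

include S hna

theorem count_pairs {n : ℕ}
    (hconj : ∀ x : Perm (Fin n), x * x = 1 → x ≠ 1 → ∀ y : Perm (Fin n), y * y = 1 → y ≠ 1 →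
      Perm.sign x = Perm.sign y → ∃ g, g * x * g⁻¹ = y)
    (hord : ∀ x : Perm (Fin n), orderOf x ≤ 6) (hC : CentLift S n) :
    Nat.card (ClassPairs t (S.ι iu) (S.ι iu)) = Nat.card (EvenPairs n) := by
  classical
  obtain ⟨hu2, hut, htu, hzu3, hac, ha2, hau3, hbc, hb3, hbu3, hbne, hgc, hgg, hazu3, haz2⟩ := u_facts S
  have hlt : iu < 192 ∧ a0 < 192 ∧ b0 < 192 ∧ g0 < 192 := by decide
  set u := S.ι iu with hudef
  set U := centralizer ({u} : Set G) with hUdef
  obtain ⟨π, hsur, hker'⟩ : ∃ π : U →* Perm (Fin n),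
      Function.Surjective π ∧ ∀ x : U, π x = 1 ↔ ((x : G) = 1 ∨ (x : G) = u) := hC
  have huu : u * u = 1 := by rw [← pow_two, ← hu2, pow_orderOf_eq_one]
  have hu1 : u ≠ 1 := fun h => by rw [h, orderOf_one] at hu2; norm_num at hu2
  have hut' : ¬ IsConj t u := not_conj_u S hlt.1 (by decide +kernel)
  have hcu : ∀ x : U, (x : G) * u = u * x := fun x => mem_centralizer_singleton_iff.1 x.2
  have hlift : ∀ x y : U, π x = π y → (y : G) = x ∨ (y : G) = x * u := by
    intro x y h
    rcases (hker' (x⁻¹ * y)).1 (by rw [map_mul, map_inv, h, inv_mul_cancel]) with h' | h'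
    · left
      exact (inv_mul_eq_one.1 (show (x : G)⁻¹ * y = 1 from h')).symm
    · right
      rw [← show (x : G)⁻¹ * y = u from h', mul_inv_cancel_left]
  let tU : U := ⟨t, mem_centralizer_singleton_iff.2 hut.symm⟩
  have htu' : ¬ IsConj t (t * u) := by rw [htu]; exact not_conj_u S (table iz_lt hlt.1) hzu3
  have hsq : ∀ x : U, orderOf (x : G) = 2 → π x * π x = 1 := fun x hx => by
    rw [← map_mul, show x * x = 1 from Subtype.ext (by
      show (x : G) * x = 1
      rw [← pow_two, ← hx, pow_orderOf_eq_one]), map_one]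
  have hTord : ∀ x : U, IsConj t (x : G) → orderOf (x : G) = 2 := fun x hx =>
    (CfsgLib.Signalizer.orderOf_of_isConj hx).trans (ord_t S)
  have hTne : ∀ x : U, IsConj t (x : G) → π x ≠ 1 := fun x hx h => by
    rcases (hker' x).1 h with h | h
    · have := hTord x hx
      rw [h, orderOf_one] at this
      norm_num at this
    · exact hut' (h ▸ hx)
  -- parity
  have hzsign : Perm.sign (π tU) = 1 := by
    have hg : S.ι g0 ∈ U := mem_centralizer_singleton_iff.2 hgc
    rw [show tU = ⟨S.ι g0, hg⟩ * ⟨S.ι g0, hg⟩ from Subtype.ext hgg.symm, map_mul, map_mul,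
      ← pow_two, Int.units_sq]
  let bU : U := ⟨S.ι b0, mem_centralizer_singleton_iff.2 hbc⟩
  have hbord : orderOf (bU : G) = 2 := (invol_iff S hlt.2.2.1).2 (by omega)
  have hbne1 : π bU ≠ 1 := fun h => by
    rcases (hker' bU).1 h with h | h
    · have := hbord
      rw [h, orderOf_one] at this
      norm_num at this
    · exact hbne (S.inj hlt.2.2.1 hlt.1 h)
  have hnotb : ∀ x : U, IsConj t (x : G) → ∀ q, q * π x * q⁻¹ ≠ π bU := by
    intro x hx q hq
    obtain ⟨g, rfl⟩ := hsur q
    rcases hlift bU (g * x * g⁻¹) (by rw [map_mul, map_mul, map_inv, hq]) with h | h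
    · exact not_conj_u S hlt.2.2.1 hb3 (hx.trans (isConj_iff.2 ⟨g, h⟩))
    · refine not_conj_u S (table hlt.2.2.1 hlt.1) hbu3 (hx.trans (isConj_iff.2 ⟨g, ?_⟩))
      rw [S.map_mul hlt.2.2.1 hlt.1]
      exact h
  have heven : ∀ x : U, IsConj t (x : G) → Perm.sign (π x) = 1 := by
    intro x hx
    by_contra hs
    have hb : Perm.sign (π bU) ≠ 1 := fun hb => by
      obtain ⟨q, hq⟩ := hconj (π tU) (hsq tU (ord_t S)) (hTne tU (IsConj.refl t)) (π bU)
        (hsq bU hbord) hbne1 (hzsign.trans hb.symm)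
      exact hnotb tU (IsConj.refl t) q hq
    obtain ⟨q, hq⟩ := hconj (π x) (hsq x (hTord x hx)) (hTne x hx) (π bU) (hsq bU hbord) hbne1
      (((Int.units_eq_one_or _).resolve_left hs).trans ((Int.units_eq_one_or _).resolve_left hb).symm)
    exact hnotb x hx q hq
  -- lifts of even involutions
  have hTu : ∀ x : U, IsConj t (x : G) → ¬ IsConj t ((x : G) * u) := by
    intro x hx h
    obtain ⟨q, hq⟩ := hconj (π x) (hsq x (hTord x hx)) (hTne x hx) (π tU) (hsq tU (ord_t S))
      (hTne tU (IsConj.refl t)) ((heven x hx).trans hzsign.symm)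
    obtain ⟨g, rfl⟩ := hsur q
    rcases hlift tU (g * x * g⁻¹) (by rw [map_mul, map_mul, map_inv, hq]) with h' | h'
    · refine htu' (h.trans (isConj_iff.2 ⟨g, ?_⟩))
      have h'' : (g : G) * x * (g : G)⁻¹ = t := h'
      calc (g : G) * (x * u) * (g : G)⁻¹ = g * x * (g : G)⁻¹ * (g * u * (g : G)⁻¹) := by group
        _ = t * u := by rw [h'', hcu g, mul_inv_cancel_right]
    · exact htu' (hx.trans (isConj_iff.2 ⟨g, h'⟩))
  have huniq : ∀ x y : U, IsConj t (x : G) → IsConj t (y : G) → π x = π y → x = y := by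
    intro x y hx hy h
    rcases hlift x y h with h' | h'
    · exact Subtype.ext h'.symm
    · exact absurd (h' ▸ hy) (hTu x hx)
  have hexT : ∀ k : Perm (Fin n), k * k = 1 → k ≠ 1 → Perm.sign k = 1 →
      ∃ x : U, IsConj t (x : G) ∧ π x = k := by
    intro k hk hk1 hks
    obtain ⟨q, hq⟩ := hconj (π tU) (hsq tU (ord_t S)) (hTne tU (IsConj.refl t)) k hk hk1
      (hzsign.trans hks.symm)
    obtain ⟨g, rfl⟩ := hsur q
    exact ⟨g * tU * g⁻¹, isConj_iff.2 ⟨g, rfl⟩, by rw [map_mul, map_mul, map_inv, hq]⟩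
  -- the product of two lifts with odd image
  have hodd : ∀ x y : U, IsConj t (x : G) → IsConj t (y : G) → ∀ m : ℕ, Odd m →
      π (x * y) ^ m = 1 → (x * y) ^ m = 1 := by
    intro x y hx hy m hm h
    rcases (hker' ((x * y) ^ m)).1 (by rw [map_pow, h]) with h' | h'
    · exact Subtype.ext h'
    exfalso
    obtain ⟨i, rfl⟩ := hm
    have hxx : x * x = 1 := Subtype.ext (by
      show (x : G) * x = 1
      rw [← pow_two, ← hTord x hx, pow_orderOf_eq_one])
    have hyy : y * y = 1 := Subtype.ext (by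
      show (y : G) * y = 1
      rw [← pow_two, ← hTord y hy, pow_orderOf_eq_one])
    have hinv : ∀ j : ℕ, ((x * y) ^ j)⁻¹ * x = x * (x * y) ^ j := by
      intro j
      rw [← inv_pow, mul_inv_rev, inv_eq_of_mul_eq_one_left hxx, inv_eq_of_mul_eq_one_left hyy]
      exact (((show SemiconjBy x (x * y) (y * x) by
        show x * (x * y) = y * x * x
        rw [← mul_assoc, hxx, one_mul, mul_assoc, hxx, mul_one]).pow_right j).eq).symm
    have hyeq : y = x * (x * y) := by rw [← mul_assoc, hxx, one_mul]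
    have hc : (((x * y) ^ (i + 1))⁻¹ * x * (x * y) ^ (i + 1) : U) =
        x * ((x * y) ^ (2 * i + 1) * (x * y)) := by
      rw [hinv, mul_assoc, ← pow_add, ← pow_succ]
      congr 2
      omega
    have hcG : ((((x * y) ^ (i + 1))⁻¹ * x * (x * y) ^ (i + 1) : U) : G) = (y : G) * u := by
      rw [hc, Subgroup.coe_mul, Subgroup.coe_mul, h']
      nth_rewrite 2 [hyeq]
      rw [Subgroup.coe_mul, Subgroup.coe_mul,
        show u * ((x : G) * y) = (x : G) * y * u from (hcu (x * y)).symm, ← mul_assoc (x : G)]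
      rfl
    exact hTu y hy (hcG ▸ hx.trans (isConj_iff.2 ⟨(((x * y) ^ (i + 1))⁻¹ : U), by
      rw [Subgroup.coe_mul, Subgroup.coe_mul, Subgroup.coe_inv, inv_inv]⟩))
  -- the bijection
  have hmk : ∀ p : EvenPairs n, ∃ x y : U, IsConj t (x : G) ∧ IsConj t (y : G) ∧
      π x = p.1.1 ∧ π y = p.1.2 := by
    rintro ⟨⟨k, l⟩, ⟨⟨hk, hk1⟩, hks⟩, ⟨⟨hl, hl1⟩, hls⟩, -⟩
    obtain ⟨x, hx, hxe⟩ := hexT k hk hk1 hks
    obtain ⟨y, hy, hye⟩ := hexT l hl hl1 hls
    exact ⟨x, y, hx, hy, hxe, hye⟩
  choose fx fy hfx hfy hfxe hfye using hmk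
  let f : EvenPairs n → ClassPairs t u u := fun p => ⟨((fx p : G), (fy p : G) * u), hfx p, by
    refine (two_classes S hna ?_).resolve_left (hTu _ (hfy p))
    refine orderOf_eq_prime ?_ fun h => ?_
    · rw [Commute.mul_pow (hcu (fy p)), ← hTord _ (hfy p), pow_orderOf_eq_one, one_mul, hTord _ (hfy p),
        pow_two, huu]
    · exact hut' (by
        have e : (fy p : G) = u := mul_right_cancel (h.trans huu.symm)
        exact e ▸ hfy p), by
    have hodd15 : (fx p * fy p) ^ 15 = 1 := hodd _ _ (hfx p) (hfy p) 15 (by decide)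
      (by rw [map_mul, hfxe, hfye, p.2.2.2])
    refine ⟨15, ?_⟩
    show ((fx p : G) * ((fy p : G) * u)) ^ (15 : ℤ) = u
    have hc : Commute ((fx p : G) * fy p) u := by
      show _ * _ = _ * _
      exact hcu (fx p * fy p)
    rw [zpow_ofNat, ← mul_assoc, hc.mul_pow,
      show ((fx p : G) * fy p) ^ 15 = 1 from congrArg Subtype.val hodd15, one_mul,
      show u ^ 15 = (u * u) ^ 7 * u by rw [← pow_two, ← pow_mul, ← pow_succ], huu, one_pow, one_mul]⟩
  refine (Nat.card_congr (Equiv.ofBijective f ⟨?_, ?_⟩)).symm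
  · intro p q h
    have h1 : fx p = fx q := Subtype.ext (congrArg (fun r : ClassPairs t u u => r.1.1) h)
    have h2 : fy p = fy q := Subtype.ext (mul_right_cancel (congrArg (fun r : ClassPairs t u u => r.1.2) h))
    exact Subtype.ext (Prod.ext (by rw [← hfxe p, h1, hfxe]) (by rw [← hfye p, h2, hfye]))
  · rintro ⟨⟨x, y⟩, hx, hy, hp⟩
    have hy2 : orderOf y = 2 := (CfsgLib.Signalizer.orderOf_of_isConj hy).trans hu2
    have hyt : ¬ IsConj t y := fun h => hut' (h.trans hy.symm)
    obtain ⟨hxU, hyU⟩ := commute_of_zpowers ((CfsgLib.Signalizer.orderOf_of_isConj hx).trans (ord_t S))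
      hy2 hu2 hp
    obtain ⟨x, rfl⟩ : ∃ x' : U, (x' : G) = x := ⟨⟨x, hxU⟩, rfl⟩
    obtain ⟨y, rfl⟩ : ∃ y' : U, (y' : G) = y := ⟨⟨y, hyU⟩, rfl⟩
    have hyy : y * y = 1 := Subtype.ext (by
      show (y : G) * y = 1
      rw [← pow_two, ← hy2, pow_orderOf_eq_one])
    have hl1 : π y ≠ 1 := by
      intro h
      rcases (hker' y).1 h with h' | h'
      · rw [h', orderOf_one] at hy2; norm_num at hy2
      · have hxu2 : ((x : G) * u) ^ 2 = 1 := by
          rw [Commute.mul_pow (hcu x), ← hTord x hx, pow_orderOf_eq_one, hTord x hx, pow_two, huu, one_mul]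
        obtain ⟨j, hj⟩ := mem_zpowers_iff.1 hp
        rw [h'] at hj
        rcases Int.even_or_odd' j with ⟨i, rfl | rfl⟩
        · rw [zpow_mul, zpow_ofNat, hxu2, one_zpow] at hj
          exact hu1 hj.symm
        · rw [zpow_add, zpow_mul, zpow_ofNat, hxu2, one_zpow, one_mul, zpow_one] at hj
          exact hTne x hx ((hker' x).2 (Or.inl (mul_eq_right.1 hj)))
    -- the order of the product of the images is odd
    set m := orderOf (π (x * y)) with hm
    have hpu : π (x * y) ^ m = 1 := pow_orderOf_eq_one _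
    have hmodd : Odd m := by
      rcases Nat.even_or_odd' m with ⟨r, hr | hr⟩
      swap
      · exact ⟨r, hr⟩
      exfalso
      set x' := y * x * y⁻¹ with hx'
      have hx't : IsConj t (x' : G) := hx.trans (isConj_iff.2 ⟨y, by
        rw [hx', Subgroup.coe_mul, Subgroup.coe_mul, Subgroup.coe_inv]⟩)
      have e2 : (x * y) ^ 2 = x * x' := by
        rw [pow_two, hx', inv_eq_of_mul_eq_one_left hyy]; group
      have hr1 : (x * x') ^ r = 1 := by
        have hπr : π (x * x') ^ r = 1 := by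
          rw [← e2, map_pow, ← pow_mul, ← hr, hpu]
        have hm6 : m ≤ 6 := hord _
        have hm0 : 0 < m := orderOf_pos _
        obtain rfl | rfl | rfl : r = 1 ∨ r = 2 ∨ r = 3 := by omega
        · exact hodd x x' hx hx't 1 odd_one hπr
        · have hk : π x * π x' = π x' * π x := by
            have hs1 := hsq x (hTord x hx)
            have hs2 := hsq x' (hTord x' hx't)
            rw [map_mul, pow_two] at hπr
            calc π x * π x' = (π x * π x')⁻¹ := eq_inv_of_mul_eq_one_left hπr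
              _ = π x' * π x := by
                rw [mul_inv_rev, inv_eq_of_mul_eq_one_left hs1, inv_eq_of_mul_eq_one_left hs2]
          have hc : x' * x * x'⁻¹ = x := huniq _ _ (hx.trans (isConj_iff.2 ⟨(x' : G), rfl⟩)) hx
            (by rw [map_mul, map_mul, map_inv, ← hk, mul_inv_cancel_right])
          have hcom : x' * x = x * x' := mul_inv_eq_iff_eq_mul.1 hc
          refine Subtype.ext ?_
          rw [Subgroup.coe_pow, Subgroup.coe_mul, Commute.mul_pow
            (show Commute (x : G) x' from (congrArg Subtype.val hcom).symm), ← hTord x hx,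
            pow_orderOf_eq_one, hTord x hx, ← hTord x' hx't, pow_orderOf_eq_one, one_mul]
          rfl
        · exact hodd x x' hx hx't 3 (by decide) hπr
      have hxy1 : ((x : G) * y) ^ (2 * r) = 1 := by
        have := congrArg Subtype.val (show (x * y) ^ (2 * r) = 1 by rw [pow_mul, e2, hr1])
        simpa using this
      obtain ⟨j, hj⟩ := mem_zpowers_iff.1 hp
      have hπj : π (x * y) ^ j = 1 := by
        rw [← map_zpow]
        exact (hker' _).2 (Or.inr (by rw [Subgroup.coe_zpow, Subgroup.coe_mul]; exact hj))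
      obtain ⟨i, rfl⟩ := orderOf_dvd_iff_zpow_eq_one.2 hπj
      rw [zpow_mul, ← hm, zpow_natCast, hr, hxy1, one_zpow] at hj
      exact hu1 hj.symm
    have h15 : (π x * π y) ^ 15 = 1 := by
      rw [← map_mul]
      exact pow_eq_one_of_odd hmodd hpu (hord _)
    have hys : Perm.sign (π y) = 1 := by
      have h := congrArg Perm.sign h15
      rw [map_pow, map_mul, heven x hx, one_mul, map_one,
        show (Perm.sign (π y)) ^ 15 = ((Perm.sign (π y)) ^ 2) ^ 7 * Perm.sign (π y) by
          rw [← pow_mul, ← pow_succ], Int.units_sq, one_pow, one_mul] at h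
      exact h
    let p : EvenPairs n := ⟨(π x, π y), ⟨⟨hsq x (hTord x hx), hTne x hx⟩, heven x hx⟩,
      ⟨⟨hsq y hy2, hl1⟩, hys⟩, h15⟩
    refine ⟨p, Subtype.ext (Prod.ext ?_ ?_)⟩
    · exact congrArg Subtype.val (huniq _ _ (hfx p) hx (hfxe p))
    · show (fy p : G) * u = y
      rcases hlift (fy p) y (hfye p) with h | h
      · exact absurd (h ▸ hfy p) hyt
      · exact h.symm

end CfsgLib.Recog.MTwelveCent
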