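import Cfsg.Agent.Lib.Recog.MTwelveCent.Basic
import Cfsg.Agent.Lib.Signalizer.OrderFormula
import Cfsg.Agent.Lib.Transfer.ThompsonTransfer
import Cfsg.Agent.Lib.ThreeTrans.WidthOneThm

/-!
Owner: helper11. Fusion of involutions in a simple group with the M12 involution centraliser.
-/

set_option autoImplicit false

namespace CfsgLib.Recog.MTwelveCent

open CfsgLib.Sporadic Subgroup

variable {G : Type*} [Group G] {t : G} (S : Setting t)

include S

theorem ord_t : orderOf t = 2 := by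
  rw [← S.map_iz, invol_iff S iz_lt]
  decide +kernel

theorem s_closed : inS 0 = true ∧ (∀ i < 192, ∀ j < 192, inS i = true → inS j = true →
    inS (mul i j) = true) ∧ ∀ i < 192, inS i = true → inS (inv i) = true := by
  have h := sylow_ok
  simp only [Bool.and_eq_true] at h
  refine ⟨h.2.1.1.1.1.1.1.1, fun i hi j hj hiS hjS => ?_, fun i hi hiS => ?_⟩
  · have := forallLt_elim h.1.1.1 hi
    simp only [hiS, Bool.not_true, Bool.false_or, Bool.and_eq_true] at this
    have := forallLt_elim this.2 hj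
    simpa [hjS] using this
  · have := forallLt_elim h.1.1.1 hi
    simp only [hiS, Bool.not_true, Bool.false_or, Bool.and_eq_true] at this
    exact this.1

theorem q_closed : inQ 0 = true ∧ (∀ i < 192, ∀ j < 192, inQ i = true → inQ j = true →
    inQ (mul i j) = true) ∧ (∀ i < 192, inQ i = true → inQ (inv i) = true) ∧
    ∀ i < 192, inQ i = true → inS i = true ∧ cls i ≠ 4 := by
  have h := sylow_ok
  simp only [Bool.and_eq_true] at h
  have key : ∀ i < 192, inQ i = true → inS i = true ∧ inQ (inv i) = true ∧ cls i ≠ 4 ∧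
      ∀ j < 192, inQ j = true → inQ (mul i j) = true := by
    intro i hi hiQ
    have := forallLt_elim h.1.1.2 hi
    simp only [hiQ, Bool.not_true, Bool.false_or, Bool.and_eq_true, Bool.not_eq_true',
      ← Bool.not_eq_true, Nat.beq_eq] at this
    refine ⟨this.1.1.1, this.1.1.2, this.1.2, fun j hj hjQ => ?_⟩
    have := forallLt_elim this.2 hj
    simpa [hjQ] using this
  exact ⟨h.2.1.1.1.1.1.1.2, fun i hi j hj a b => (key i hi a).2.2.2 j hj b,
    fun i hi a => (key i hi a).2.1, fun i hi a => ⟨(key i hi a).1, (key i hi a).2.2.1⟩⟩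

/-- the subgroup of order 64 -/
def sylK : Subgroup G := indexSubgroup S inS (s_closed S).1 (s_closed S).2.1 (s_closed S).2.2

/-- its subgroup of index two -/
def subQ : Subgroup G := indexSubgroup S inQ (q_closed S).1 (q_closed S).2.1 (q_closed S).2.2.1

theorem card_sylK : Nat.card (sylK S) = 64 := by
  have h := sylow_ok
  simp only [Bool.and_eq_true, Nat.beq_eq] at h
  rw [sylK, card_indexSubgroup S, h.2.1.2]

theorem sylK_le : sylK S ≤ centralizer ({t} : Set G) := by
  rintro _ ⟨i, hi, -, rfl⟩; exact mem S hi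

theorem t_mem_sylK : t ∈ sylK S := by
  refine ⟨iz, iz_lt, ?_, S.map_iz⟩
  decide +kernel

theorem eq_t_of_central {g : G} (hg : g ∈ sylK S) (hc : ∀ x ∈ sylK S, g * x = x * g) (h1 : g ≠ 1) :
    g = t := by
  obtain ⟨i, hi, hiS, rfl⟩ := hg
  have h := sylow_ok
  simp only [Bool.and_eq_true] at h
  have := forallLt_elim h.1.2 hi
  simp only [hiS, Bool.not_true, Bool.false_or, Bool.or_eq_true, Nat.beq_eq, existsLt_iff,
    Bool.and_eq_true, Bool.not_eq_true'] at this
  rcases this with (h' | h') | ⟨y, hy, hyS, hyc⟩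
  · exact absurd ((ι_eq_one_iff S hi).2 h') h1
  · rw [h']; exact S.map_iz
  · exact absurd ((commB_iff S hi hy).2 (hc _ ⟨y, hy, hyS, rfl⟩)) (by simp [hyc])

variable [Finite G]

omit S in
theorem card_sylow_part {R : Subgroup G} (hR : IsPGroup 2 R) (hle : R ≤ centralizer ({t} : Set G))
    (S : Setting t) : Nat.card R ≤ 64 := by
  obtain ⟨k, hk⟩ := IsPGroup.iff_card.1 hR
  have hd := Subgroup.card_dvd_of_le hle
  rw [card_centralizer_t S, hk] at hd
  rw [hk]
  have : k ≤ 6 := by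
    by_contra h
    have h7 : 2 ^ 7 ∣ 192 := (pow_dvd_pow 2 (by omega)).trans hd
    norm_num at h7
  calc 2 ^ k ≤ 2 ^ 6 := Nat.pow_le_pow_right (by norm_num) this
    _ = 64 := by norm_num

omit [Finite G] in
theorem isPGroup_sylK : IsPGroup 2 (sylK S) :=
  IsPGroup.of_card (n := 6) (by rw [card_sylK S]; norm_num)

theorem exists_sylow : ∃ P : Sylow 2 G, (P : Subgroup G) = sylK S := by
  haveI : Fact (Nat.Prime 2) := ⟨Nat.prime_two⟩
  obtain ⟨P, hP⟩ := (isPGroup_sylK S).exists_le_sylow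
  refine ⟨P, le_antisymm ?_ hP⟩
  haveI := P.2.isNilpotent
  by_contra hnot
  have hlt : (sylK S).subgroupOf (P : Subgroup G) < ⊤ :=
    lt_top_iff_ne_top.2 fun e => hnot (subgroupOf_eq_top.1 e)
  have hnc := normalizerCondition_of_isNilpotent (G := (P : Subgroup G)) _ hlt
  obtain ⟨g, hgN, hgK⟩ := SetLike.exists_of_lt hnc
  have hgK' : (g : G) ∉ sylK S := fun h => hgK (mem_subgroupOf.2 h)
  have hnorm : ∀ x ∈ sylK S, (g : G) * x * (g : G)⁻¹ ∈ sylK S ∧ (g : G)⁻¹ * x * g ∈ sylK S := by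
    intro x hx
    have h1 := (mem_normalizer_iff.1 hgN ⟨x, hP hx⟩).1 (mem_subgroupOf.2 hx)
    have h2 := (mem_normalizer_iff''.1 hgN ⟨x, hP hx⟩).1 (mem_subgroupOf.2 hx)
    exact ⟨mem_subgroupOf.1 h1, mem_subgroupOf.1 h2⟩
  have hgt : (g : G) * t * (g : G)⁻¹ = t := by
    refine eq_t_of_central S (hnorm t (t_mem_sylK S)).1 (fun x hx => ?_) ?_
    · have h1 := mem_centralizer_singleton_iff.1 (sylK_le S (hnorm x hx).2)
      calc (g : G) * t * (g : G)⁻¹ * x = g * (t * ((g : G)⁻¹ * x * g)) * (g : G)⁻¹ := by group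
        _ = x * (g * t * (g : G)⁻¹) := by rw [← h1]; group
    · intro h
      have h2 := ord_t S
      rw [conj_eq_one_iff.1 h, orderOf_one] at h2
      norm_num at h2
  have hgC : (g : G) ∈ centralizer ({t} : Set G) :=
    mem_centralizer_singleton_iff.2 (mul_inv_eq_iff_eq_mul.1 hgt)
  have hle : sylK S ≤ (P : Subgroup G) ⊓ centralizer ({t} : Set G) := le_inf hP (sylK_le S)
  have hlt' : sylK S < (P : Subgroup G) ⊓ centralizer ({t} : Set G) :=
    lt_of_le_of_ne hle fun e => hgK' (e ▸ mem_inf.2 ⟨g.2, hgC⟩)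
  have := card_sylow_part (P.2.to_le inf_le_left) inf_le_right S
  have h3 : Nat.card (sylK S) < Nat.card ↥((P : Subgroup G) ⊓ centralizer ({t} : Set G)) := by
    by_contra h
    exact hlt'.ne (Subgroup.eq_of_le_of_card_ge hle (not_lt.1 h))
  rw [card_sylK S] at h3
  omega

/-- An involution of `C(t)` whose centraliser there is a 2-group of order below 64 that is
controlled at `t` is not conjugate to `t`. -/
theorem not_isConj_t {v : G} (D : Subgroup G) (hD : D = centralizer ({t} : Set G) ⊓ centralizer ({v} : Set G))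
    (h2 : IsPGroup 2 D) (hlt : Nat.card D < 64)
    (hctl : ∀ g ∈ centralizer ({v} : Set G), (∀ x ∈ D, g * x * g⁻¹ ∈ D) → g * t * g⁻¹ = t) :
    ¬ IsConj t v := by
  intro hconj
  obtain ⟨c, hc⟩ := isConj_iff.1 hconj
  haveI : Fact (Nat.Prime 2) := ⟨Nat.prime_two⟩
  have hCv : Nat.card (centralizer ({v} : Set G)) = 192 := by
    rw [← card_centralizer_t S]
    have h1 := CfsgLib.Signalizer.card_conj_class v
    have h2 := CfsgLib.Signalizer.card_conj_class t
    have e : Nat.card {y : G // IsConj v y} = Nat.card {y : G // IsConj t y} :=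
      Nat.card_congr (Equiv.subtypeEquivRight fun y => ⟨hconj.trans, hconj.symm.trans⟩)
    rw [e] at h1
    exact Nat.eq_of_mul_eq_mul_left (Nat.pos_of_ne_zero fun h => by
      rw [h, zero_mul] at h2; exact absurd h2 (Nat.card_pos).ne) (h1.trans h2.symm)
  have hDv : D ≤ centralizer ({v} : Set G) := hD ▸ inf_le_right
  obtain ⟨Q, hQ⟩ := (h2.comap_subtype (K := centralizer ({v} : Set G))).exists_le_sylow
  set R := (Q : Subgroup (centralizer ({v} : Set G))).map (centralizer ({v} : Set G)).subtype with hR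
  have hRcard : Nat.card R = 64 := by
    rw [hR, card_map_of_injective (subtype_injective _), Sylow.card_eq_multiplicity, hCv,
      show (192 : ℕ) = 2 ^ 6 * 3 by norm_num, Nat.factorization_mul (by norm_num) (by norm_num),
      Finsupp.add_apply, Nat.Prime.factorization_pow Nat.prime_two, Finsupp.single_eq_same,
      Nat.factorization_eq_zero_of_not_dvd (show ¬ 2 ∣ 3 by norm_num)]
    norm_num
  have hR2 : IsPGroup 2 R := IsPGroup.of_card (n := 6) (by rw [hRcard]; norm_num)
  have hDR : D ≤ R := fun x hx => ⟨⟨x, hDv hx⟩, hQ hx, rfl⟩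
  have hne : D ≠ R := fun e => by rw [e, hRcard] at hlt; exact lt_irrefl _ hlt
  haveI := hR2.isNilpotent
  have hnc := normalizerCondition_of_isNilpotent (G := R) (D.subgroupOf R)
    (lt_top_iff_ne_top.2 fun e => hne (le_antisymm hDR (subgroupOf_eq_top.1 e)))
  obtain ⟨g, hgN, hgD⟩ := SetLike.exists_of_lt hnc
  refine hgD (mem_subgroupOf.2 ?_)
  obtain ⟨g, hg⟩ := g
  obtain ⟨g', -, rfl⟩ := id hg
  have hgt := hctl _ g'.2 fun x hx =>
    mem_subgroupOf.1 ((mem_normalizer_iff.1 hgN ⟨x, hDR hx⟩).1 (mem_subgroupOf.2 hx))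
  rw [hD]
  exact mem_inf.2 ⟨mem_centralizer_singleton_iff.2 (mul_inv_eq_iff_eq_mul.1 hgt), g'.2⟩

omit [Finite G] in
theorem card_centralizer_idx {i : ℕ} (hi : i < 192) :
    Nat.card ↥(centralizer ({t} : Set G) ⊓ centralizer ({S.ι i} : Set G)) =
      countLt 192 (fun g => commB g i) := by
  refine card_of_index S _ (fun g => g ∈ centralizer ({t} : Set G) ⊓ centralizer ({S.ι i} : Set G))
    fun g => ?_
  rw [mem_inf, S.mem_iff, mem_centralizer_singleton_iff]
  constructor
  · rintro ⟨⟨k, hk, rfl⟩, h⟩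
    exact ⟨k, hk, (commB_iff S hk hi).2 h, rfl⟩
  · rintro ⟨k, hk, hc, rfl⟩
    exact ⟨⟨k, hk, rfl⟩, (commB_iff S hk hi).1 hc⟩

omit [Finite G] in
/-- The centraliser in `C(t)` of an involution other than `t`. -/
theorem pgroup_cent {i : ℕ} (hi : i < 192) (hc : 2 ≤ cls i ∧ cls i ≤ 4) :
    IsPGroup 2 ↥(centralizer ({t} : Set G) ⊓ centralizer ({S.ι i} : Set G)) ∧
      Nat.card ↥(centralizer ({t} : Set G) ⊓ centralizer ({S.ι i} : Set G)) < 64 ∧
      (cls i = 3 → Nat.card ↥(centralizer ({t} : Set G) ⊓ centralizer ({S.ι i} : Set G)) = 16) := by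
  have h := forallLt_elim cent_ok hi
  simp only [Bool.and_eq_true, Bool.or_eq_true, Bool.not_eq_true', ← Bool.not_eq_true, Nat.beq_eq] at h
  rw [card_centralizer_idx S hi]
  obtain h2 | h3 | h4 : cls i = 2 ∨ cls i = 3 ∨ cls i = 4 := by omega
  · have e := (h.1.1.1.resolve_left (fun h => h h2)).1
    exact ⟨IsPGroup.of_card (n := 5) (by rw [card_centralizer_idx S hi, e]; norm_num), by omega,
      fun h' => by omega⟩
  · have e := (h.1.1.2.resolve_left (fun h => h h3)).1
    exact ⟨IsPGroup.of_card (n := 4) (by rw [card_centralizer_idx S hi, e]; norm_num), by omega,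
      fun _ => e⟩
  · have e := h.1.2.resolve_left (fun h => h h4)
    exact ⟨IsPGroup.of_card (n := 3) (by rw [card_centralizer_idx S hi, e]; norm_num), by omega,
      fun h' => by omega⟩

theorem conj_t_cases {i : ℕ} (hi : i < 192) (hc : cls i = 2 ∨ cls i = 3) {g : G}
    (hgv : g ∈ centralizer ({S.ι i} : Set G))
    (hn : ∀ x ∈ centralizer ({t} : Set G) ⊓ centralizer ({S.ι i} : Set G),
      g * x * g⁻¹ ∈ centralizer ({t} : Set G) ⊓ centralizer ({S.ι i} : Set G)) :
    g * t * g⁻¹ = t ∨ (cls i = 2 ∧ g * t * g⁻¹ = S.ι (mul i iz)) := by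
  have h := forallLt_elim cent_ok hi
  simp only [Bool.and_eq_true, Bool.or_eq_true, Bool.not_eq_true', ← Bool.not_eq_true, Nat.beq_eq,
    existsLt_iff] at h
  obtain ⟨a, ha, b, hb, hab⟩ := h.2.resolve_left (fun h => h hc)
  obtain ⟨⟨hca, hcb⟩, hk⟩ := hab
  have hmemI : ∀ k, k < 192 → commB k i = true →
      S.ι k ∈ centralizer ({t} : Set G) ⊓ centralizer ({S.ι i} : Set G) := fun k hk hc =>
    mem_inf.2 ⟨mem S hk, mem_centralizer_singleton_iff.2 ((commB_iff S hk hi).1 hc)⟩
  have hA := hn _ (hmemI a ha hca)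
  have hB := hn _ (hmemI b hb hcb)
  obtain ⟨a', ha', hae⟩ := exists_index S (mem_inf.1 hA).1
  obtain ⟨b', hb', hbe⟩ := exists_index S (mem_inf.1 hB).1
  have hca' : commB a' i = true := (commB_iff S ha' hi).2 (by
    rw [hae]; exact mem_centralizer_singleton_iff.1 (mem_inf.1 hA).2)
  have hcb' : commB b' i = true := (commB_iff S hb' hi).2 (by
    rw [hbe]; exact mem_centralizer_singleton_iff.1 (mem_inf.1 hB).2)
  set k := mul (mul a' b') (mul (inv a') (inv b')) with hkdef
  have hk192 : k < 192 := table (table ha' hb') (table (inv_lt S ha') (inv_lt S hb'))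
  have hkt : S.ι k = g * t * g⁻¹ := by
    rw [hkdef, S.map_mul (table ha' hb') (table (inv_lt S ha') (inv_lt S hb')),
      S.map_mul ha' hb', S.map_mul (inv_lt S ha') (inv_lt S hb'), ι_inv S ha', ι_inv S hb', hae, hbe]
    have hz := congrArg S.ι hk
    rw [S.map_mul (table ha hb) (table (inv_lt S ha) (inv_lt S hb)), S.map_mul ha hb,
      S.map_mul (inv_lt S ha) (inv_lt S hb), ι_inv S ha, ι_inv S hb, S.map_iz] at hz
    calc g * S.ι a * g⁻¹ * (g * S.ι b * g⁻¹) * ((g * S.ι a * g⁻¹)⁻¹ * (g * S.ι b * g⁻¹)⁻¹)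
        = g * (S.ι a * S.ι b * ((S.ι a)⁻¹ * (S.ι b)⁻¹)) * g⁻¹ := by group
      _ = g * t * g⁻¹ := by rw [hz]
  have hne : g * t * g⁻¹ ≠ 1 := fun h => by
    have h2 := ord_t S
    rw [conj_eq_one_iff.1 h, orderOf_one] at h2
    norm_num at h2
  have hnv : g * t * g⁻¹ ≠ S.ι i := fun h => by
    have e : t = S.ι i := by
      have hgv' := mem_centralizer_singleton_iff.1 hgv
      calc t = g⁻¹ * (g * t * g⁻¹) * g := by group
        _ = g⁻¹ * (S.ι i * g) := by rw [h]; group
        _ = S.ι i := by rw [← hgv']; group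
    have := S.inj iz_lt hi (S.map_iz.trans e)
    subst this
    have hz : cls iz = 1 := by decide +kernel
    omega
  rcases hc with hc | hc
  · have hcase := forallLt_elim (forallLt_elim (h.1.1.1.resolve_left (fun h => h hc)).2 ha') hb'
    simp only [hca', hcb', Bool.and_self, Bool.not_true, Bool.false_or, Bool.or_eq_true,
      Nat.beq_eq, ← hkdef] at hcase
    rcases hcase with ((h' | h') | h') | h'
    · exact absurd (by rw [← hkt, h', ι_zero S]) hne
    · exact Or.inl (by rw [← hkt, h', S.map_iz])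
    · exact absurd (by rw [← hkt, h']) hnv
    · exact Or.inr ⟨hc, by rw [← hkt, h']⟩
  · have hcase := forallLt_elim (forallLt_elim (h.1.1.2.resolve_left (fun h => h hc)).2 ha') hb'
    simp only [hca', hcb', Bool.and_self, Bool.not_true, Bool.false_or, Bool.or_eq_true,
      Nat.beq_eq, ← hkdef] at hcase
    rcases hcase with h' | h'
    · exact absurd (by rw [← hkt, h', ι_zero S]) hne
    · exact Or.inl (by rw [← hkt, h', S.map_iz])

theorem not_conj_u {i : ℕ} (hi : i < 192) (hc : cls i = 3) : ¬ IsConj t (S.ι i) := by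
  obtain ⟨h2, hlt, -⟩ := pgroup_cent S hi ⟨by omega, by omega⟩
  exact not_isConj_t S _ rfl h2 hlt fun g hg hn =>
    (conj_t_cases S hi (Or.inr hc) hg hn).resolve_right fun h => by omega

theorem zmul {i : ℕ} (hi : i < 192) :
    (cls i = 2 → cls (mul i iz) = 2) ∧ (cls i = 3 → cls (mul i iz) = 3) := by
  have h := zmul_ok
  simp only [Bool.and_eq_true] at h
  have := forallLt_elim h.1 hi
  simp only [Bool.and_eq_true, Bool.or_eq_true, Bool.not_eq_true', ← Bool.not_eq_true, Nat.beq_eq] at this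
  exact ⟨fun hc => this.1.resolve_left (fun h => h hc), fun hc => this.2.resolve_left (fun h => h hc)⟩

theorem not_conj_a_of {i : ℕ} (hi : i < 192) (hc : cls i = 2)
    (haz : ¬ IsConj t (S.ι (mul i iz))) : ¬ IsConj t (S.ι i) := by
  obtain ⟨h2, hlt, -⟩ := pgroup_cent S hi ⟨by omega, by omega⟩
  exact not_isConj_t S _ rfl h2 hlt fun g hg hn =>
    (conj_t_cases S hi (Or.inl hc) hg hn).resolve_right fun h =>
      haz (isConj_iff.2 ⟨g, h.2⟩)

variable [IsSimpleGroup G] (hna : ¬ IsMulCommutative G)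
include hna

omit S [Finite G] in
theorem not_central {x : G} (hx : x ≠ 1) : ¬ ∀ g : G, g * x = x * g := by
  intro h
  have hxc : x ∈ center G := mem_center_iff.2 h
  rcases (inferInstance : (center G).Normal).eq_bot_or_eq_top with e | e
  · exact hx (mem_bot.1 (e ▸ hxc))
  · exact hna ⟨⟨fun a b => (mem_center_iff.1 (e ▸ mem_top a) b).symm⟩⟩

theorem conj_a : IsConj t (S.ι ia) := by
  by_contra hna'
  have hA : ∀ i < 192, cls i = 2 → ¬ IsConj t (S.ι i) := fun i hi hc h =>
    hna' (h.trans ((isConj_rep S hi).1 hc).symm)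
  have hw0 : w0 < 192 ∧ a1 < 192 ∧ cls w0 = 4 := by decide +kernel
  have hW : ∀ i < 192, cls i = 4 → ¬ IsConj t (S.ι i) := by
    intro i hi hc h
    have h0 : IsConj t (S.ι w0) :=
      h.trans (((isConj_rep S hi).2.2 hc).symm.trans ((isConj_rep S hw0.1).2.2 hw0.2.2))
    obtain ⟨c, hc'⟩ := isConj_iff.1 h0.symm
    have hwa := wa_ok
    simp only [Bool.and_eq_true, Nat.beq_eq] at hwa
    have hcomm := (commB_iff S hw0.2.1 hw0.1).1 hwa.1.2
    have hxC : c * S.ι a1 * c⁻¹ ∈ centralizer ({t} : Set G) := by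
      rw [mem_centralizer_singleton_iff]
      calc c * S.ι a1 * c⁻¹ * t = c * S.ι a1 * c⁻¹ * (c * S.ι w0 * c⁻¹) := by rw [hc']
        _ = c * (S.ι a1 * S.ι w0) * c⁻¹ := by group
        _ = c * S.ι w0 * c⁻¹ * (c * S.ι a1 * c⁻¹) := by rw [hcomm]; group
        _ = t * (c * S.ι a1 * c⁻¹) := by rw [hc']
    have hcl : IsConj (S.ι a1) (c * S.ι a1 * c⁻¹) := isConj_iff.2 ⟨c, rfl⟩
    have hnx : ¬ IsConj t (c * S.ι a1 * c⁻¹) := fun h => hA a1 hw0.2.1 hwa.1.1.2 (h.trans hcl.symm)
    obtain ⟨k, hk, hke, h1, h4⟩ := exists_invol_index S hxC (by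
      rw [CfsgLib.Signalizer.orderOf_conj, invol_iff S hw0.2.1]
      omega)
    have hk4 : cls k ≠ 4 := fun e => hnx (hke ▸ (h.trans (((isConj_rep S hi).2.2 hc).symm.trans
      ((isConj_rep S hk).2.2 e))))
    have hk1 : cls k ≠ 1 := fun e => hnx (by
      rw [← hke, (cls_lt_six S hk).2.2.1 e, S.map_iz])
    have hprod : S.ι (mul k iz) = c * S.ι (mul w0 a1) * c⁻¹ := by
      rw [S.map_mul hk iz_lt, hke, S.map_iz, S.map_mul hw0.1 hw0.2.1, ← hcomm]
      calc c * S.ι a1 * c⁻¹ * t = c * S.ι a1 * c⁻¹ * (c * S.ι w0 * c⁻¹) := by rw [hc']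
        _ = c * (S.ι a1 * S.ι w0) * c⁻¹ := by group
    have hmk : IsConj t (S.ι (mul k iz)) := by
      rw [hprod]
      exact (h.trans (((isConj_rep S hi).2.2 hc).symm.trans
        ((isConj_rep S (table hw0.1 hw0.2.1)).2.2 hwa.2))).trans (isConj_iff.2 ⟨c, rfl⟩)
    have hlt := table hk iz_lt
    obtain h2 | h3 : cls k = 2 ∨ cls k = 3 := by omega
    · exact hA _ hlt ((zmul S hk).1 h2) hmk
    · exact not_conj_u S hlt ((zmul S hk).2 h3) hmk
  obtain ⟨P, hP⟩ := exists_sylow S
  have htP : t ∈ (P : Subgroup G) := hP ▸ t_mem_sylK S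
  obtain ⟨N, hN, hodd, hNt⟩ := CfsgLib.ThreeTrans.isolatedInvolution G P t (ord_t S) htP (by
    intro g hg
    replace hg : g * t * g⁻¹ ∈ sylK S := hP ▸ hg
    obtain ⟨i, hi, hiS, he⟩ := hg
    have hconj : IsConj t (S.ι i) := he ▸ isConj_iff.2 ⟨g, rfl⟩
    obtain ⟨h1, h4⟩ := (invol_iff S hi).1 (by rw [he, CfsgLib.Signalizer.orderOf_conj, ord_t S])
    obtain h | h | h | h : cls i = 1 ∨ cls i = 2 ∨ cls i = 3 ∨ cls i = 4 := by omega
    · rw [← he, (cls_lt_six S hi).2.2.1 h, S.map_iz]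
    · exact absurd hconj (hA i hi h)
    · exact absurd hconj (not_conj_u S hi h)
    · exact absurd hconj (hW i hi h))
  rcases hN.eq_bot_or_eq_top with e | e
  · refine not_central hna (x := t) (fun h1 => ?_) fun g => ?_
    · have h2 := ord_t S
      rw [h1, orderOf_one] at h2
      norm_num at h2
    · have h3 := hNt g
      rw [e, mem_bot, mul_inv_eq_one, mul_inv_eq_iff_eq_mul] at h3
      exact h3.symm
  · have h2 : 2 ∣ Nat.card N := by
      rw [e, card_top]
      exact ord_t S ▸ orderOf_dvd_natCard t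
    exact (Nat.not_even_iff_odd.2 hodd) (even_iff_two_dvd.2 h2)

theorem conj_w : IsConj t (S.ι iw) ∨ IsConj (S.ι iu) (S.ι iw) := by
  obtain ⟨P, hP⟩ := exists_sylow S
  have hQK : subQ S ≤ sylK S := by
    rintro _ ⟨i, hi, hq, rfl⟩
    exact ⟨i, hi, ((q_closed S).2.2.2 i hi hq).1, rfl⟩
  have h := sylow_ok
  simp only [Bool.and_eq_true, Nat.beq_eq, Bool.not_eq_true'] at h
  have hrel : (subQ S).relIndex (P : Subgroup G) = 2 := by
    rw [hP]
    have h1 := ((subQ S).subgroupOf (sylK S)).card_mul_index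
    rw [Nat.card_congr (subgroupOfEquivOfLe hQK).toEquiv, card_sylK S,
      show Nat.card (subQ S) = 32 by rw [subQ, card_indexSubgroup S, h.2.2]] at h1
    show ((subQ S).subgroupOf (sylK S)).index = 2
    omega
  have hw0 : w0 < 192 ∧ cls w0 = 4 := by decide +kernel
  have hord : orderOf (S.ι w0) = 2 := (invol_iff S hw0.1).2 (by omega)
  have hrep := (isConj_rep S hw0.1).2.2 hw0.2
  rcases CfsgLib.Transfer.thompson_transfer P (subQ S) hrel hord with ⟨M, hM, hM2, -⟩ | ⟨g, i, hi, hq, he⟩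
  · exfalso
    rcases hM.eq_bot_or_eq_top with e | e
    · rw [e, index_bot] at hM2
      haveI : Fact (Nat.Prime 2) := ⟨Nat.prime_two⟩
      haveI := isCyclic_of_prime_card hM2
      exact hna IsCyclic.isMulCommutative
    · rw [e, index_top] at hM2
      norm_num at hM2
  · have hconj : IsConj (S.ι iw) (S.ι i) := hrep.trans (he ▸ isConj_iff.2 ⟨g, rfl⟩)
    obtain ⟨h1, h4⟩ := (invol_iff S hi).1 (by rw [he, CfsgLib.Signalizer.orderOf_conj, hord])
    have h4' := ((q_closed S).2.2.2 i hi hq).2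
    obtain h | h | h : cls i = 1 ∨ cls i = 2 ∨ cls i = 3 := by omega
    · left
      rw [(cls_lt_six S hi).2.2.1 h, S.map_iz] at hconj
      exact hconj.symm
    · exact Or.inl ((conj_a S hna).trans (((isConj_rep S hi).1 h).trans hconj.symm))
    · exact Or.inr (((isConj_rep S hi).2.1 h).trans hconj.symm)

theorem two_classes {x : G} (hx : orderOf x = 2) : IsConj t x ∨ IsConj (S.ι iu) x := by
  haveI : Fact (Nat.Prime 2) := ⟨Nat.prime_two⟩
  obtain ⟨P, hP⟩ := exists_sylow S
  obtain ⟨Q, hQ⟩ := (IsPGroup.of_card (n := 1) (by rw [Nat.card_zpowers, hx, pow_one]) :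
    IsPGroup 2 (zpowers x)).exists_le_sylow
  obtain ⟨g, hg⟩ := MulAction.exists_smul_eq G Q P
  have hgx : g * x * g⁻¹ ∈ (P : Subgroup G) := by
    rw [← hg, Sylow.coe_subgroup_smul]
    exact Subgroup.smul_mem_pointwise_smul x (MulAut.conj g) _ (hQ (mem_zpowers x))
  rw [hP] at hgx
  obtain ⟨i, hi, -, he⟩ := hgx
  have hxi : IsConj (S.ι i) x := IsConj.symm (he ▸ isConj_iff.2 ⟨g, rfl⟩)
  obtain ⟨h1, h4⟩ := (invol_iff S hi).1 (by rw [he, CfsgLib.Signalizer.orderOf_conj, hx])
  obtain h | h | h | h : cls i = 1 ∨ cls i = 2 ∨ cls i = 3 ∨ cls i = 4 := by omega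
  · rw [(cls_lt_six S hi).2.2.1 h, S.map_iz] at hxi
    exact Or.inl hxi
  · exact Or.inl ((conj_a S hna).trans (((isConj_rep S hi).1 h).trans hxi))
  · exact Or.inr (((isConj_rep S hi).2.1 h).trans hxi)
  · rcases conj_w S hna with hw | hw
    · exact Or.inl (hw.trans (((isConj_rep S hi).2.2 h).trans hxi))
    · exact Or.inr (hw.trans (((isConj_rep S hi).2.2 h).trans hxi))

end CfsgLib.Recog.MTwelveCent
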