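import Cfsg.Agent.Lib.Recog.MTwelveCent.Data
import Cfsg.Agent.Lib.Sporadic.Bits

/-!
Owner: helper11. Kernel-checked facts about the table of the centraliser of a two-central involution of M12.
-/

set_option autoImplicit false

namespace CfsgLib.Recog.MTwelveCent

open CfsgLib.Sporadic

/-- byte `i` of a packed list -/
def byte (v i : ℕ) : ℕ := Nat.mod (Nat.shiftRight v (Nat.mul 8 i)) 256

def mul (i j : ℕ) : ℕ := byte (row i) j
def inv (i : ℕ) : ℕ := byte invP i
/-- 0: identity, 1: z, 2: class of 6, 3: class of 12, 4: class of 24, 5: no involution -/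
def cls (i : ℕ) : ℕ := byte clsP i
def d8 (i : ℕ) : ℕ := byte d8P i
def inS (i : ℕ) : Bool := sP.testBit i
def inQ (i : ℕ) : Bool := qP.testBit i
def cj (g x : ℕ) : ℕ := mul (mul g x) (inv g)
def commB (x y : ℕ) : Bool := Nat.beq (mul x y) (mul y x)
/-- whether `v` is one of the first eight powers of `x` -/
noncomputable def hasPow (v x : ℕ) : Bool :=
  Nat.rec (motive := fun _ => ℕ → Bool) (fun _ => false)
    (fun _ ih p => Nat.beq p v || ih (mul x p)) 8 x

noncomputable def existsLt (n : ℕ) (f : ℕ → Bool) : Bool := !forallLt n fun i => !f i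

/-- `x` lies in `{1} ∪` the classes 1 and 2. -/
def inN (x : ℕ) : Bool := Nat.ble (cls x) 2

/-- multiplication of the dihedral group of order eight in coded form -/
def dmul (a b : ℕ) : ℕ :=
  bif Nat.blt a 4 then (bif Nat.blt b 4 then (a + b) % 4 else 4 + (b + 4 - a % 4) % 4)
  else (bif Nat.blt b 4 then 4 + (a + b) % 4 else (b + 4 - a % 4) % 4)

set_option maxRecDepth 100000

theorem table_ok : ((forallLt 192 fun i => forallLt 192 fun j => Nat.blt (mul i j) 192) &&
    (forallLt 192 fun j => Nat.beq (mul 0 j) j && Nat.beq (mul j 0) j && Nat.blt (inv j) 192 &&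
      Nat.beq (mul j (inv j)) 0) &&
    (forallLt 192 fun i => Nat.beq i 0 || (Nat.blt (byte parP i) i && Nat.blt (byte genP i) 3 &&
      forallLt 192 fun j => Nat.beq (mul i j) (mul (genI.getD (byte genP i) 0) (mul (byte parP i) j))))) = true := by decide +kernel

theorem cls_ok : ((forallLt 192 fun i => Nat.blt (cls i) 6 && (Nat.beq (cls i) 0 == Nat.beq i 0) &&
      (Nat.beq (cls i) 1 == Nat.beq i iz) &&
      (Nat.blt (cls i) 5 == Nat.beq (mul i i) 0)) &&
    (forallLt 192 fun g => forallLt 192 fun x => Nat.beq (cls (cj g x)) (cls x) && Nat.beq (cj g iz) iz) &&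
    (forallLt 192 fun x =>
      (!Nat.beq (cls x) 2 || existsLt 192 fun g => Nat.beq (cj g ia) x) &&
      (!Nat.beq (cls x) 3 || existsLt 192 fun g => Nat.beq (cj g iu) x) &&
      (!Nat.beq (cls x) 4 || existsLt 192 fun g => Nat.beq (cj g iw) x))) = true := by decide +kernel

theorem zmul_ok : ((forallLt 192 fun x =>
    (!Nat.beq (cls x) 2 || Nat.beq (cls (mul x iz)) 2) &&
    (!Nat.beq (cls x) 3 || Nat.beq (cls (mul x iz)) 3)) &&
    (Nat.beq (cls ia) 2 && Nat.beq (cls iu) 3 && Nat.beq (cls iw) 4)) = true := by decide +kernel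

/-- The Sylow subgroup and its subgroup of index two. -/
theorem sylow_ok : ((forallLt 192 fun x => !inS x || ((inS (inv x)) &&
      forallLt 192 fun y => !inS y || inS (mul x y))) &&
    (forallLt 192 fun x => !inQ x || (inS x && inQ (inv x) && !Nat.beq (cls x) 4 &&
      forallLt 192 fun y => !inQ y || inQ (mul x y))) &&
    (forallLt 192 fun x => !inS x || Nat.beq x 0 || Nat.beq x iz ||
      existsLt 192 fun y => inS y && !commB x y) &&
    (inS 0 && inQ 0 && inS iz && inS w0 && !inQ w0 && Nat.beq (cls w0) 4 &&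
      Nat.beq (countLt 192 inS) 64 && Nat.beq (countLt 192 inQ) 32)) = true := by decide +kernel

/-- The centralisers of the involutions other than z. -/
theorem cent_ok : forallLt 192 (fun x =>
    (!Nat.beq (cls x) 2 || (Nat.beq (countLt 192 fun g => commB g x) 32 &&
      forallLt 192 fun g => forallLt 192 fun h => !(commB g x && commB h x) ||
        let k := mul (mul g h) (mul (inv g) (inv h))
        Nat.beq k 0 || Nat.beq k iz || Nat.beq k x || Nat.beq k (mul x iz))) &&
    (!Nat.beq (cls x) 3 || (Nat.beq (countLt 192 fun g => commB g x) 16 &&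
      forallLt 192 fun g => forallLt 192 fun h => !(commB g x && commB h x) ||
        let k := mul (mul g h) (mul (inv g) (inv h))
        Nat.beq k 0 || Nat.beq k iz)) &&
    (!Nat.beq (cls x) 4 || Nat.beq (countLt 192 fun g => commB g x) 8) &&
    (!(Nat.beq (cls x) 2 || Nat.beq (cls x) 3) || existsLt 192 fun g => existsLt 192 fun h =>
      commB g x && commB h x && Nat.beq (mul (mul g h) (mul (inv g) (inv h))) iz)) = true := by
  decide +kernel

/-- The normal elementary abelian subgroup of order eight. -/
theorem eight_ok : ((forallLt 192 fun x => !inN x || forallLt 192 fun y => !inN y ||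
      (commB x y && inN (mul x y))) &&
    Nat.beq (countLt 192 inN) 8) = true := by decide +kernel

theorem wa_ok : (Nat.blt a1 192 && Nat.beq (cls a1) 2 && commB a1 w0 && Nat.beq (cls (mul w0 a1)) 4) = true := by
  decide +kernel

/-- The centraliser of `iu`. -/
theorem du_ok : ((Nat.beq (cls a0) 2 && commB a0 iu && Nat.beq (cls (mul a0 iu)) 3 &&
    Nat.beq (cls b0) 3 && commB b0 iu && Nat.beq (cls (mul b0 iu)) 3 && !Nat.beq b0 iu &&
    commB g0 iu && Nat.beq (mul g0 g0) iz) &&
    Nat.beq (countLt 192 fun g => commB g iu && commB g a0) 8 &&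
    (forallLt 192 fun x => !commB x iu || (!Nat.beq (cls x) 4 &&
      Nat.blt (d8 x) 8 && (Nat.beq (d8 x) 0 == (Nat.beq x 0 || Nat.beq x iu)) &&
      forallLt 192 fun y => !commB y iu || Nat.beq (d8 (mul x y)) (dmul (d8 x) (d8 y)))) &&
    (forallLt 8 fun k => existsLt 192 fun x => commB x iu && Nat.beq (d8 x) k)) = true := by
  decide +kernel

/-- number of pairs of classes `X`, `Y` with `z` a power of the product -/
noncomputable def pairCount (v : ℕ) (X Y : ℕ → Bool) : ℕ :=
  Nat.rec 0 (fun x ih => Nat.add (bif X x then countLt 192 (fun y => Y y && hasPow v (mul x y)) else 0) ih) 192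

def zSplit (x : ℕ) : Bool := Nat.beq (cls x) 1 || Nat.beq (cls x) 2
def uSplit (x : ℕ) : Bool := Nat.beq (cls x) 3 || Nat.beq (cls x) 4
def zFused (x : ℕ) : Bool := Nat.beq (cls x) 1 || Nat.beq (cls x) 2 || Nat.beq (cls x) 4
def uFused (x : ℕ) : Bool := Nat.beq (cls x) 3

theorem count_split : pairCount iz zSplit uSplit = 48 := by decide +kernel
theorem count_fused : pairCount iz zFused uFused = 240 := by decide +kernel
theorem count_split_u :
    pairCount iu (fun x => zSplit x && commB x iu) (fun y => uSplit y && commB y iu) = 3 := by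
  decide +kernel

theorem count_w : forallLt 192 (fun x => !Nat.beq (cls x) 4 ||
    Nat.ble 12 (countLt 192 fun y => zFused y && hasPow iz (mul x y))) = true := by decide +kernel

theorem count_four : countLt 192 (fun x => Nat.beq (cls x) 4) = 24 := by decide +kernel

end CfsgLib.Recog.MTwelveCent
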