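import Cfsg.Agent.Lib.Recog.MTwelveCent.EvenCount
import Cfsg.Agent.Lib.Signalizer.OrderFormula

/-!
Owner: helper11. The order of a simple group with the involution centraliser of `M12`.
-/

set_option autoImplicit false
set_option maxRecDepth 100000

namespace CfsgLib.Recog.MTwelveCent

open CfsgLib.Sporadic Subgroup
open CfsgLib.Signalizer (ClassPairs)

theorem count_fused_u :
    Nat.ble (pairCount iu (fun x => zFused x && commB x iu) (fun y => uFused y && commB y iu)) 256 = true := by
  decide +kernel

theorem conj_comm_aux {H : Type*} [Group H] {a v g : H} (hav : v * a = a * v) (hg : g * v * g⁻¹ = a) :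
    g * a * g⁻¹ * a = a * (g * a * g⁻¹) ∧ g⁻¹ * a * g⁻¹⁻¹ = v := by
  constructor
  · calc g * a * g⁻¹ * a = g * a * g⁻¹ * (g * v * g⁻¹) := by rw [hg]
      _ = g * (a * v) * g⁻¹ := by group
      _ = g * (v * a) * g⁻¹ := by rw [hav]
      _ = g * v * g⁻¹ * (g * a * g⁻¹) := by group
      _ = a * (g * a * g⁻¹) := by rw [hg]
  · calc g⁻¹ * a * g⁻¹⁻¹ = g⁻¹ * (g * v * g⁻¹) * g⁻¹⁻¹ := by rw [hg]
      _ = v := by group

theorem factorial_vals : Nat.factorial 4 = 24 ∧ Nat.factorial 5 = 120 := by decide

variable {G : Type*} [Group G] {t : G} (S : Setting t) [Finite G]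

include S

/-- the elementary abelian subgroup of order eight -/
def eightN : Subgroup G :=
  indexSubgroup S inN (by decide +kernel)
    (fun i hi j hj h h' => by
      have e := eight_ok
      simp only [Bool.and_eq_true, Bool.or_eq_true, Bool.not_eq_true'] at e
      have := (forallLt_elim e.1 hi)
      simp only [h, Bool.not_true, Bool.false_or] at this
      have := forallLt_elim this hj
      simp only [h', Bool.not_true, Bool.false_or, Bool.and_eq_true] at this
      exact this.2)
    (fun i hi h => by
      have e := eight_ok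
      simp only [Bool.and_eq_true] at e
      have := (forallLt_elim e.1 hi)
      simp only [h, Bool.not_true, Bool.false_or] at this
      have hsq : mul i i = 0 := by
        obtain ⟨hl, h0, h1⟩ := cls_lt_six S hi
        have hle : cls i ≤ 2 := by simpa [inN] using h
        have hc := cls_ok
        simp only [Bool.and_eq_true] at hc
        have h4 := forallLt_elim hc.1.1 hi
        simp only [Bool.and_eq_true, beq_iff_eq] at h4
        have h4' := Bool.eq_iff_iff.1 h4.2
        simp only [Nat.blt_eq, Nat.beq_eq] at h4'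
        exact h4'.1 (by omega)
      have : inv i = i := S.inj (inv_lt S hi) hi (by
        rw [ι_inv S hi]
        refine inv_eq_of_mul_eq_one_right ?_
        rw [← S.map_mul hi hi, hsq, ι_zero S])
      rw [this]
      exact h)

omit [Finite G] in
theorem eightN_facts : Nat.card (eightN S) = 8 ∧ (∀ x ∈ eightN S, ∀ y ∈ eightN S, x * y = y * x) ∧
    t ∈ eightN S ∧ eightN S ≤ centralizer ({t} : Set G) ∧
    ∀ c ∈ centralizer ({t} : Set G), ∀ x ∈ eightN S, c * x * c⁻¹ ∈ eightN S := by
  have e := eight_ok
  simp only [Bool.and_eq_true, Nat.beq_eq] at e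
  refine ⟨by rw [eightN, card_indexSubgroup S, e.2], ?_, ⟨iz, iz_lt, by decide +kernel, S.map_iz⟩, ?_, ?_⟩
  · rintro _ ⟨i, hi, hf, rfl⟩ _ ⟨j, hj, hg, rfl⟩
    have := forallLt_elim e.1 hi
    simp only [hf, Bool.not_true, Bool.false_or] at this
    have := forallLt_elim this hj
    simp only [hg, Bool.not_true, Bool.false_or, Bool.and_eq_true] at this
    exact (commB_iff S hi hj).1 this.1
  · rintro _ ⟨i, hi, -, rfl⟩
    exact mem S hi
  · rintro c hc _ ⟨i, hi, hf, rfl⟩
    obtain ⟨k, hk, rfl⟩ := exists_index S hc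
    exact ⟨cj k i, cj_lt S hk hi, by simpa [inN, cls_cj S hk hi] using hf, ι_cj S hk hi⟩

variable [IsSimpleGroup G] (hna : ¬ IsMulCommutative G)
include hna

/-- The lower bound for the class of `t` in the fused pattern. -/
theorem class_bound (hP : Pattern S zFused uFused) : 55296 ≤ Nat.card G := by
  classical
  have hcls := CfsgLib.Signalizer.card_conj_class t
  rw [card_centralizer_t S] at hcls
  have hfour : ∀ i < 192, cls i = 4 → 12 ≤ Nat.card {x : G // IsConj t x ∧ S.ι i ∈ zpowers (t * x)} := by
    intro i hi h4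
    have hti : IsConj t (S.ι i) := (hP.1 i hi).2 (by simp [zFused, Nat.beq_eq, h4])
    obtain ⟨g, hg⟩ := isConj_iff.1 hti.symm
    have hgt : g * t * g⁻¹ ∈ centralizer ({t} : Set G) := mem_centralizer_singleton_iff.2
      (conj_comm_aux (mem_centralizer_singleton_iff.1 (mem S hi)) hg).1
    obtain ⟨k, hk, hke⟩ := exists_index S hgt
    have hkt : IsConj t (S.ι k) := hke ▸ isConj_iff.2 ⟨g, rfl⟩
    have hk1 : cls k ≠ 1 := fun e => by
      have e' : g * t * g⁻¹ = t := by rw [← hke, (cls_lt_six S hk).2.2.1 e, S.map_iz]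
      have hgc : g * t = t * g := mul_inv_eq_iff_eq_mul.1 e'
      have : S.ι i = t := by
        calc S.ι i = g⁻¹ * (g * S.ι i * g⁻¹) * g := by group
          _ = g⁻¹ * (t * g) := by rw [hg, mul_assoc]
          _ = t := by rw [← hgc, inv_mul_cancel_left]
      have := S.inj hi iz_lt (this.trans S.map_iz.symm)
      subst this
      have hz : cls iz = 1 := by decide +kernel
      omega
    have hXk := (hP.1 k hk).1 hkt
    simp only [zFused, Bool.or_eq_true, Nat.beq_eq] at hXk
    have hk2 : cls k ≠ 2 := fun e => by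
      have c1 := card_centralizer_idx S hi
      have c2 := card_centralizer_idx S hk
      have hh := forallLt_elim cent_ok hi
      have hh' := forallLt_elim cent_ok hk
      simp only [Bool.and_eq_true, Bool.or_eq_true, Bool.not_eq_true', ← Bool.not_eq_true,
        Nat.beq_eq] at hh hh'
      rw [hh.1.2.resolve_left (fun h => h h4)] at c1
      rw [(hh'.1.1.1.resolve_left (fun h => h e)).1] at c2
      have hmap : (centralizer ({t} : Set G) ⊓ centralizer ({S.ι i} : Set G)).map (MulAut.conj g).toMonoidHom
          = centralizer ({t} : Set G) ⊓ centralizer ({S.ι k} : Set G) := by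
        have hc : ∀ x a : G, g⁻¹ * x * g * a = a * (g⁻¹ * x * g) ↔ x * (g * a * g⁻¹) = g * a * g⁻¹ * x := by
          intro x a
          constructor
          · intro h
            calc x * (g * a * g⁻¹) = g * (g⁻¹ * x * g * a) * g⁻¹ := by group
              _ = g * (a * (g⁻¹ * x * g)) * g⁻¹ := by rw [h]
              _ = g * a * g⁻¹ * x := by group
          · intro h
            calc g⁻¹ * x * g * a = g⁻¹ * (x * (g * a * g⁻¹)) * g := by group
              _ = g⁻¹ * (g * a * g⁻¹ * x) * g := by rw [h]
              _ = a * (g⁻¹ * x * g) := by group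
        ext x
        rw [Subgroup.mem_map_equiv, MulAut.conj_symm_apply]
        simp only [mem_inf, mem_centralizer_singleton_iff, hc, hg, hke]
        exact and_comm
      have := Nat.card_congr ((equivMapOfInjective (centralizer ({t} : Set G) ⊓ centralizer ({S.ι i} : Set G))
        (MulAut.conj g).toMonoidHom (MulAut.conj g).injective).toEquiv)
      rw [hmap, c1, c2] at this
      omega
    have hk4 : cls k = 4 := by omega
    have hcw := forallLt_elim count_w hk
    simp only [hk4, Bool.or_eq_true, Bool.not_eq_true', Nat.ble_eq] at hcw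
    have hcw' := hcw.resolve_left (by decide)
    rw [countLt_eq, ← Nat.card_eq_finsetCard] at hcw'
    refine hcw'.trans (Nat.card_le_card_of_injective
      (fun y : {y // y ∈ (Finset.range 192).filter fun y => (zFused y && hasPow iz (mul k y)) = true} =>
      (⟨g⁻¹ * S.ι y.1 * g, by
        obtain ⟨y, hy⟩ := y
        simp only [Finset.mem_filter, Finset.mem_range, Bool.and_eq_true] at hy
        refine ⟨((hP.1 y hy.1).2 hy.2.1).trans (isConj_iff.2 ⟨g⁻¹, by group⟩), ?_⟩
        have hz := (hasPow_iff_zpowers S (table hk hy.1) iz_lt).1 hy.2.2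
        rw [S.map_iz, S.map_mul hk hy.1, hke] at hz
        obtain ⟨n, hn⟩ := mem_zpowers_iff.1 hz
        refine mem_zpowers_iff.2 ⟨n, ?_⟩
        show (t * (g⁻¹ * S.ι y * g)) ^ n = S.ι i
        calc (t * (g⁻¹ * S.ι y * g)) ^ n = (g⁻¹ * (g * t * g⁻¹ * S.ι y) * (g⁻¹)⁻¹) ^ n := by group
          _ = g⁻¹ * (g * t * g⁻¹ * S.ι y) ^ n * (g⁻¹)⁻¹ := conj_zpow
          _ = S.ι i := by
            rw [hn]
            exact (conj_comm_aux (mem_centralizer_singleton_iff.1 (mem S hi)) hg).2⟩ :
        {x : G // IsConj t x ∧ S.ι i ∈ zpowers (t * x)})) ?_)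
    intro a b h
    have h' := mul_left_cancel (mul_right_cancel (congrArg Subtype.val h))
    exact Subtype.ext (S.inj (Finset.mem_range.1 (Finset.mem_filter.1 a.2).1)
      (Finset.mem_range.1 (Finset.mem_filter.1 b.2).1) h')
  set F := (Finset.range 192).filter fun i => Nat.beq (cls i) 4 = true with hF
  have hFc : F.card = 24 := by rw [hF, ← countLt_eq]; exact count_four
  have hFm : ∀ i ∈ F, i < 192 ∧ cls i = 4 := fun i hi => by
    simpa [hF, Nat.beq_eq] using hi
  haveI := Fintype.ofFinite {x : G // IsConj t x}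
  let T : ℕ → Finset {x : G // IsConj t x} := fun i => Finset.univ.filter fun x => S.ι i ∈ zpowers (t * x.1)
  have hT : ∀ i ∈ F, 12 ≤ (T i).card := by
    intro i hi
    refine (hfour i (hFm i hi).1 (hFm i hi).2).trans (le_of_eq ?_)
    rw [← Nat.card_eq_finsetCard]
    exact Nat.card_congr
      { toFun := fun x => ⟨⟨x.1, x.2.1⟩, by simpa [T] using x.2.2⟩
        invFun := fun x => ⟨x.1.1, x.1.2, (Finset.mem_filter.1 x.2).2⟩
        left_inv := fun x => rfl
        right_inv := fun x => rfl }
  have hdisj : (F : Set ℕ).PairwiseDisjoint T := by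
    intro i hi j hj hne
    rw [Function.onFun, Finset.disjoint_left]
    intro x hx hx'
    simp only [T, Finset.mem_filter, Finset.mem_univ, true_and] at hx hx'
    obtain ⟨hi1, hi4⟩ := hFm i hi
    obtain ⟨hj1, hj4⟩ := hFm j hj
    exact hne (S.inj hi1 hj1 (CfsgLib.Signalizer.unique_involution_in_zpowers hx hx'
      ((invol_iff S hi1).2 (by omega)) ((invol_iff S hj1).2 (by omega))))
  have h1 : F.card * 12 ≤ (F.biUnion T).card := by
    rw [Finset.card_biUnion hdisj, ← smul_eq_mul, ← Finset.sum_const]
    exact Finset.sum_le_sum hT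
  have h2 : (F.biUnion T).card ≤ Nat.card {x : G // IsConj t x} := by
    rw [Nat.card_eq_fintype_card]; exact Finset.card_le_univ _
  rw [hFc] at h1
  rw [← hcls]
  calc 55296 = 288 * 192 := by norm_num
    _ ≤ _ := Nat.mul_le_mul_right _ (by omega)

/-- In the split pattern the group has a normal subgroup of order eight. -/
theorem split_false (hP : Pattern S zSplit uSplit)
    (hG : Nat.card G = 1344 ∨ Nat.card G = 2880 ∨ Nat.card G = 48960) : False := by
  classical
  obtain ⟨h8, hab, htN, hle, hnorm⟩ := eightN_facts S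
  set N := eightN S with hN
  have hNt : ∀ x ∈ N, x ≠ 1 → IsConj t x := by
    rintro _ ⟨i, hi, hf, rfl⟩ h1
    have hne : cls i ≠ 0 := fun e => h1 (by rw [(cls_lt_six S hi).2.1.1 e, ι_zero S])
    refine (hP.1 i hi).2 ?_
    have hle : cls i ≤ 2 := by simpa [inN] using hf
    simp only [zSplit, Bool.or_eq_true, Nat.beq_eq]
    omega
  have hNc : ∀ x ∈ centralizer ({t} : Set G), IsConj t x → x ∈ N := by
    intro x hx hc
    obtain ⟨i, hi, rfl⟩ := exists_index S hx
    have := (hP.1 i hi).1 hc
    simp only [zSplit, Bool.or_eq_true, Nat.beq_eq] at this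
    exact ⟨i, hi, by simp only [inN, Nat.ble_eq]; omega, rfl⟩
  have hgN : ∀ g : G, g * t * g⁻¹ ∈ N → g ∈ normalizer (N : Set G) := by
    intro g hg
    have hmem : ∀ y ∈ N, g⁻¹ * y * g ∈ N := by
      intro y hy
      rcases eq_or_ne y 1 with rfl | hy1
      · simp
      refine hNc _ ?_ ((hNt y hy hy1).trans (isConj_iff.2 ⟨g⁻¹, by group⟩))
      rw [mem_centralizer_singleton_iff]
      calc g⁻¹ * y * g * t = g⁻¹ * (y * (g * t * g⁻¹)) * g := by group
        _ = g⁻¹ * (g * t * g⁻¹ * y) * g := by rw [hab y hy _ hg]
        _ = t * (g⁻¹ * y * g) := by group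
    have hsur : Function.Surjective (fun y : N => (⟨g⁻¹ * y * g, hmem y y.2⟩ : N)) :=
      Finite.injective_iff_surjective.1 fun a b h =>
        Subtype.ext (mul_left_cancel (mul_right_cancel (congrArg Subtype.val h)))
    rw [mem_normalizer_iff]
    intro y
    constructor
    · intro hy
      obtain ⟨⟨z, hz⟩, hze⟩ := hsur ⟨y, hy⟩
      have hze' : g⁻¹ * z * g = y := congrArg Subtype.val hze
      rw [← hze', show g * (g⁻¹ * z * g) * g⁻¹ = z by group]
      exact hz
    · intro hy
      have := hmem _ hy
      rwa [show g⁻¹ * (g * y * g⁻¹) * g = y by group] at this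
  have hCN : centralizer ({t} : Set G) ≤ normalizer (N : Set G) := fun c hc => hgN c (by
    rw [mem_centralizer_singleton_iff.1 hc, mul_inv_cancel_right]; exact htN)
  set M := normalizer (N : Set G) with hM
  let tM : M := ⟨t, le_normalizer htN⟩
  have hclass : Nat.card {y : M // IsConj tM y} = Nat.card {x : N // x ≠ 1} := by
    refine Nat.card_congr (Equiv.ofBijective (fun y => ⟨⟨((y.1 : M) : G), ?_⟩, ?_⟩) ⟨?_, ?_⟩)
    · obtain ⟨⟨g, hg⟩, e⟩ := isConj_iff.1 y.2
      rw [← e]
      exact (mem_normalizer_iff.1 hg t).1 htN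
    · intro h
      have h' : ((y.1 : M) : G) = 1 := congrArg Subtype.val h
      have := CfsgLib.Signalizer.orderOf_of_isConj y.2
      rw [Subgroup.orderOf_coe tM |>.symm, ← Subgroup.orderOf_coe, h', orderOf_one] at this
      exact absurd ((ord_t S).symm.trans this.symm) (by norm_num)
    · intro a b h
      exact Subtype.ext (Subtype.ext (congrArg (fun x : {x : N // x ≠ 1} => ((x.1 : N) : G)) h))
    · rintro ⟨⟨x, hx⟩, hx1⟩
      obtain ⟨g, hg⟩ := isConj_iff.1 (hNt x hx fun e => hx1 (Subtype.ext e))
      have hgM : g ∈ M := hgN g (hg ▸ hx)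
      exact ⟨⟨⟨g, hgM⟩ * tM * ⟨g, hgM⟩⁻¹, isConj_iff.2 ⟨_, rfl⟩⟩, Subtype.ext (Subtype.ext hg)⟩
  have hseven : Nat.card {x : N // x ≠ 1} = 7 := by
    haveI := Fintype.ofFinite N
    rw [Nat.card_eq_fintype_card, Fintype.card_subtype_compl, Fintype.card_subtype_eq,
      ← Nat.card_eq_fintype_card, h8]
  have hcM : Nat.card (centralizer ({tM} : Set M)) = 192 := by
    rw [← card_centralizer_t S]
    refine Nat.card_congr
      { toFun := fun x => ⟨((x.1 : M) : G), mem_centralizer_singleton_iff.2
          (congrArg Subtype.val (mem_centralizer_singleton_iff.1 x.2))⟩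
        invFun := fun x => ⟨⟨x.1, hCN x.2⟩, mem_centralizer_singleton_iff.2
          (Subtype.ext (mem_centralizer_singleton_iff.1 x.2))⟩
        left_inv := fun x => rfl
        right_inv := fun x => rfl }
  have hMcard : Nat.card M = 1344 := by
    rw [← CfsgLib.Signalizer.card_conj_class tM, hclass, hseven, hcM]
  have hdvd : 1344 ∣ Nat.card G := hMcard ▸ card_subgroup_dvd_card M
  obtain h | h | h := hG
  · have htop : M = ⊤ := eq_top_of_card_eq M (hMcard.trans h.symm)
    rcases (normalizer_eq_top_iff.1 htop).eq_bot_or_eq_top with e | e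
    · rw [e, card_bot] at h8
      norm_num at h8
    · rw [e, card_top, h] at h8
      norm_num at h8
  · rw [h] at hdvd; norm_num at hdvd
  · rw [h] at hdvd; norm_num at hdvd

omit hna [IsSimpleGroup G] in
theorem card_centralizer_of_lift {n : ℕ} (hC : CentLift S n) :
    Nat.card (centralizer ({S.ι iu} : Set G)) = 2 * n.factorial := by
  obtain ⟨π, hsur, hker⟩ := hC
  have hu2 := (u_facts S).1
  let uU : centralizer ({S.ι iu} : Set G) := ⟨S.ι iu, mem_centralizer_singleton_iff.2 rfl⟩
  have hk : π.ker = zpowers uU := by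
    refine le_antisymm (fun x hx => ?_) (zpowers_le.2 (MonoidHom.mem_ker.2 ((hker uU).2 (Or.inr rfl))))
    rcases (hker x).1 hx with h | h
    · rw [show x = 1 from Subtype.ext h]; exact one_mem _
    · rw [show x = uU from Subtype.ext h]; exact mem_zpowers _
  rw [← π.ker.card_mul_index, index_ker, MonoidHom.range_eq_top.2 hsur, card_top, hk, Nat.card_zpowers,
    ← Subgroup.orderOf_coe, hu2, Nat.card_perm, Nat.card_eq_fintype_card, Fintype.card_fin]

theorem card_eq : Nat.card G = 95040 := by
  have hlt : iu < 192 := by decide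
  have hu3 : cls iu = 3 := by decide +kernel
  have hu2 : orderOf (S.ι iu) = 2 := (invol_iff S hlt).2 (by omega)
  have hform := CfsgLib.Signalizer.thompson_order_formula t (S.ι iu) (ord_t S) hu2
    (not_conj_u S hlt hu3) (fun x hx => two_classes S hna hx)
  rw [card_centralizer_t S] at hform
  have hle16 : centralizer ({S.ι iu} : Set G) ≤ centralizer ({t} : Set G) →
      Nat.card (centralizer ({S.ι iu} : Set G)) = 16 := fun hle => by
    have h := (pgroup_cent S hlt ⟨by omega, by omega⟩).2.2 hu3
    rwa [inf_eq_right.2 hle] at h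
  have hfour : CentLift S 4 → Nat.card (ClassPairs t (S.ι iu) (S.ι iu)) = 3 := fun h => by
    rw [count_pairs S hna conj_four (fun x => ?_) h, card_evenPairs_four]
    rcases orders_four x with h | h | h | h <;>
      exact (orderOf_le_of_pow_eq_one (by norm_num) h).trans (by norm_num)
  have hfive : CentLift S 5 → Nat.card (ClassPairs t (S.ι iu) (S.ι iu)) = 195 := fun h => by
    rw [count_pairs S hna conj_five (fun x => ?_) h, card_evenPairs_five]
    rcases orders_five x with h | h | h | h | h | h <;>
      exact (orderOf_le_of_pow_eq_one (by norm_num) h).trans (by norm_num)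
  rcases pattern_cases S hna with ⟨-, hP⟩ | ⟨-, hP⟩
  · rw [card_classPairs_t S hP, count_fused] at hform
    have hlow := class_bound S hna hP
    rcases cent_cases S hna with h | h | h
    · have hb := count_fused_u
      rw [Nat.ble_eq, ← card_classPairs_u_of_le S h hP] at hb
      rw [hle16 h] at hform
      omega
    · rw [card_centralizer_of_lift S h, hfour h, factorial_vals.1] at hform
      omega
    · rw [card_centralizer_of_lift S h, hfive h, factorial_vals.2] at hform
      omega
  · exfalso
    rw [card_classPairs_t S hP, count_split] at hform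
    refine split_false S hna hP ?_
    rcases cent_cases S hna with h | h | h
    · rw [hle16 h, card_classPairs_u_of_le S h hP, count_split_u] at hform
      omega
    · rw [card_centralizer_of_lift S h, hfour h, factorial_vals.1] at hform
      omega
    · rw [card_centralizer_of_lift S h, hfive h, factorial_vals.2] at hform
      omega

end CfsgLib.Recog.MTwelveCent
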